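import Cfsg.Agent.H195.FC.Ring
import Cfsg.Agent.H198.FC.Defs
import Cfsg.Agent.H55.FC.T3
import Cfsg.Agent.H786.FC.PartsC4
import Cfsg.Agent.H706.FC.Tv
import Mathlib.NumberTheory.LegendreSymbol.QuadraticChar.Basic
import Cfsg.Agent.H563.FC.MT
import Cfsg.Agent.H786.FC.Parts
import Mathlib
import Cfsg.Agent.H319.FC.Dual
import Cfsg.Agent.H88.FC.ThreeOdd_mg
import Cfsg.Agent.H786.FC.Bridge_mg
import Cfsg.Agent.H412.FC.BBridge
set_option linter.all false

-- part: H195/FC/Gens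
section
/-!
# S5764, tensor decompositions: the generators (helper195)
-/

set_option autoImplicit false
set_option linter.unusedSectionVars false

namespace Cfsg.Agent.H195.FC

open Matrix
open scoped Kronecker

section

variable {K : Type*} [Field K]

/-- the nilpotent shift -/
def Sh (K : Type*) [Field K] (n : ℕ) : Matrix (Fin n) (Fin n) K := Matrix.of fun i j => if (i : ℕ) + 1 = j then 1 else 0

theorem Sh_pow_apply (n k : ℕ) (i j : Fin n) : (Sh K n ^ k) i j = if (i : ℕ) + k = j then 1 else 0 := by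
  induction k generalizing j with
  | zero =>
    rw [pow_zero, Matrix.one_apply, add_zero]
    simp [Fin.ext_iff]
  | succ k ih =>
    rw [pow_succ, Matrix.mul_apply]
    simp only [ih]
    by_cases h : (i : ℕ) + (k + 1) = j
    · rw [if_pos h, Finset.sum_eq_single (⟨i + k, by omega⟩ : Fin n)]
      · simp only [Sh, Matrix.of_apply]
        rw [if_pos trivial, if_pos (by omega), one_mul]
      · intro l _ hl
        rw [if_neg, zero_mul]
        intro h1
        exact hl (Fin.ext h1.symm)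
      · intro h1
        exact absurd (Finset.mem_univ _) h1
    · rw [if_neg h]
      refine Finset.sum_eq_zero fun l _ => ?_
      simp only [Sh, Matrix.of_apply]
      by_cases h1 : (i : ℕ) + k = l
      · rw [if_pos h1, if_neg (by omega), mul_zero]
      · rw [if_neg h1, zero_mul]

theorem Sh_nil (n : ℕ) : Sh K n ^ n = 0 := by
  ext i j
  rw [Sh_pow_apply, if_neg (by omega), Matrix.zero_apply]

theorem ShT_nil (n : ℕ) : (Sh K n)ᵀ ^ n = 0 := by
  rw [← Matrix.transpose_pow, Sh_nil, Matrix.transpose_zero]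

/-- the square zero matrix `(e₀ + γ e₁) (γ e₀ - e₁)ᵀ` -/
def Hm (n : ℕ) (γ : K) : Matrix (Fin (n + 2)) (Fin (n + 2)) K :=
  vecMulVec (Pi.single 0 1 + γ • Pi.single 1 1) (γ • Pi.single 0 1 - Pi.single 1 1)

theorem Hm_sq (n : ℕ) (γ : K) : Hm n γ ^ 2 = 0 := by
  rw [pow_two, Hm, Matrix.vecMulVec_mul_vecMulVec]
  have : (γ • Pi.single (0 : Fin (n + 2)) (1 : K) - Pi.single 1 1) ⬝ᵥ (Pi.single 0 1 + γ • Pi.single 1 1) = 0 := by
    simp [dotProduct_add]
  rw [this]
  simp

theorem Hm_00 (n : ℕ) (γ : K) : Hm n γ 0 0 = γ := by simp [Hm, vecMulVec_apply]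
theorem Hm_01 (n : ℕ) (γ : K) : Hm n γ 0 1 = -1 := by simp [Hm, vecMulVec_apply]
theorem Hm_10 (n : ℕ) (γ : K) : Hm n γ 1 0 = γ ^ 2 := by simp [Hm, vecMulVec_apply, pow_two]
theorem Hm_11 (n : ℕ) (γ : K) : Hm n γ 1 1 = -γ := by simp [Hm, vecMulVec_apply]

theorem Hm_eq (n : ℕ) : Hm n (1 : K) = Matrix.single 0 0 1 - Matrix.single 0 1 1 + Matrix.single 1 0 1 - Matrix.single 1 1 1 := by
  ext i j
  simp only [Hm, vecMulVec_apply, Matrix.sub_apply, Matrix.add_apply, Matrix.single_apply, Pi.add_apply, Pi.sub_apply,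
    Pi.smul_apply, Pi.single_apply, smul_eq_mul]
  by_cases h0 : i = 0
  · subst h0
    by_cases h1 : j = 0
    · subst h1; simp
    · by_cases h2 : j = 1
      · subst h2; simp
      · simp [h1, h2, Ne.symm h1, Ne.symm h2]
  · by_cases h0' : i = 1
    · subst h0'
      by_cases h1 : j = 0
      · subst h1; simp
      · by_cases h2 : j = 1
        · subst h2; simp
        · simp [h1, h2, Ne.symm h1, Ne.symm h2]
    · simp [h0, h0', Ne.symm h0, Ne.symm h0']

variable {n : ℕ} {f : Matrix (Fin (n + 2)) (Fin (n + 2)) K → Matrix (Fin (n + 2)) (Fin (n + 2)) K}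

theorem single_mul_Sh (i : Fin (n + 2)) {k : ℕ} (hk : k + 1 < n + 2) :
    (Matrix.single i ⟨k + 1, hk⟩ 1 : Matrix (Fin (n + 2)) (Fin (n + 2)) K) = Matrix.single i ⟨k, by omega⟩ 1 * Sh K (n + 2) := by
  ext a b
  rw [Matrix.single_apply]
  by_cases h : i = a
  · subst h
    rw [Matrix.single_mul_apply_same, one_mul]
    simp [Sh, Fin.ext_iff]
  · rw [if_neg (fun h1 => h h1.1)]
    exact (Matrix.single_mul_apply_of_ne _ _ _ _ _ (Ne.symm h) _).symm

theorem ShT_mul_single (j : Fin (n + 2)) {k : ℕ} (hk : k + 1 < n + 2) :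
    (Matrix.single ⟨k + 1, hk⟩ j 1 : Matrix (Fin (n + 2)) (Fin (n + 2)) K) = (Sh K (n + 2))ᵀ * Matrix.single ⟨k, by omega⟩ j 1 := by
  have h := congrArg Matrix.transpose (single_mul_Sh (K := K) j hk)
  rw [Matrix.transpose_mul, Matrix.transpose_single, Matrix.transpose_single] at h
  exact h

theorem single_00 : (Matrix.single 0 0 1 : Matrix (Fin (n + 2)) (Fin (n + 2)) K) = 1 - (Sh K (n + 2))ᵀ * Sh K (n + 2) := by
  ext i j
  rw [Matrix.single_apply, Matrix.sub_apply, Matrix.one_apply, Matrix.mul_apply]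
  simp only [Matrix.transpose_apply, Sh, Matrix.of_apply]
  by_cases hi : i = 0
  · subst hi
    rw [Finset.sum_eq_zero, sub_zero]
    · simp
    · intro k _
      rw [if_neg (by simp), zero_mul]
  · have hi' : (i : ℕ) ≠ 0 := fun h => hi (Fin.ext h)
    have hv : (((⟨(i : ℕ) - 1, by omega⟩ : Fin (n + 2)) : Fin (n + 2)) : ℕ) + 1 = i := Nat.sub_add_cancel (by omega)
    rw [if_neg (fun h => hi h.1.symm), Finset.sum_eq_single (⟨(i : ℕ) - 1, by omega⟩ : Fin (n + 2))]
    · rw [if_pos hv, one_mul]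
      by_cases hij : i = j
      · subst hij
        rw [if_pos rfl, if_pos hv, sub_self]
      · rw [if_neg hij, if_neg, sub_zero]
        intro h
        apply hij
        apply Fin.ext
        simp at h
        omega
    · intro k _ hk
      rw [if_neg, zero_mul]
      intro h
      apply hk
      apply Fin.ext
      simp
      omega
    · intro h
      exact absurd (Finset.mem_univ _) h

theorem ShS_ne : (Sh K (n + 2))ᵀ * Sh K (n + 2) ≠ 0 := by
  intro h
  have h1 := single_00 (K := K) (n := n)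
  rw [h, sub_zero] at h1
  have h2 := congrFun (congrFun h1 1) 1
  simp at h2

theorem ShS_idem : ((Sh K (n + 2))ᵀ * Sh K (n + 2)) * ((Sh K (n + 2))ᵀ * Sh K (n + 2)) = (Sh K (n + 2))ᵀ * Sh K (n + 2) := by
  have h1 : (Sh K (n + 2))ᵀ * Sh K (n + 2) = 1 - Matrix.single 0 0 1 := by rw [single_00]; abel
  rw [h1, sub_mul, mul_sub, mul_sub, mul_one, one_mul, mul_one, Matrix.single_mul_single_same, mul_one]
  abel

/-- the images of the matrix units -/
theorem units (hadd : ∀ X Y, f (X + Y) = f X + f Y) (hmul : ∀ X Y, f (X * Y) = f X * f Y) (h1 : f 1 = 1)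
    {c c' : K} (hc : c ≠ 0) (hc' : c' ≠ 0) (hN : f (Sh K (n + 2)) = c • Sh K (n + 2))
    (hT : f (Sh K (n + 2))ᵀ = c' • (Sh K (n + 2))ᵀ) :
    c' * c = 1 ∧ ∀ i j : Fin (n + 2), f (Matrix.single i j 1) = (c' ^ (i : ℕ) * c ^ (j : ℕ)) • Matrix.single i j 1 := by
  have e1 : f ((Sh K (n + 2))ᵀ * Sh K (n + 2)) = (c' * c) • ((Sh K (n + 2))ᵀ * Sh K (n + 2)) := by
    rw [hmul, hN, hT, Matrix.smul_mul, Matrix.mul_smul, smul_smul]
  have e2 : c' * c = 1 := by
    have h2 := congrArg f (ShS_idem (K := K) (n := n))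
    rw [hmul, e1, Matrix.smul_mul, Matrix.mul_smul, smul_smul, ShS_idem] at h2
    have h3 := smul_left_injective K (ShS_ne (K := K) (n := n)) h2
    have h4 : c' * c * (c' * c - 1) = 0 := by
      have : c' * c * (c' * c) = c' * c := h3
      linear_combination this
    rcases mul_eq_zero.1 h4 with h5 | h5
    · exact absurd h5 (mul_ne_zero hc' hc)
    · exact sub_eq_zero.1 h5
  refine ⟨e2, ?_⟩
  have h0 : f 0 = 0 := by
    have h := hadd 0 0
    rw [add_zero] at h
    exact left_eq_add.1 h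
  have hsub : ∀ X Y, f (X - Y) = f X - f Y := by
    intro X Y
    have h := hadd (X - Y) Y
    rw [sub_add_cancel] at h
    rw [h, add_sub_cancel_right]
  have e3 : f (Matrix.single 0 0 1) = Matrix.single 0 0 1 := by
    rw [single_00, hsub, h1, e1, e2, one_smul]
  have e4 : ∀ (k : ℕ) (hk : k < n + 2), f (Matrix.single 0 ⟨k, hk⟩ 1) = c ^ k • Matrix.single 0 ⟨k, hk⟩ 1 := by
    intro k
    induction k with
    | zero => intro hk; rw [pow_zero, one_smul]; exact e3
    | succ k ih =>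
      intro hk
      rw [single_mul_Sh, hmul, ih, hN, Matrix.smul_mul, Matrix.mul_smul, smul_smul, pow_succ]
  have e5 : ∀ (k : ℕ) (hk : k < n + 2), f (Matrix.single ⟨k, hk⟩ 0 1) = c' ^ k • Matrix.single ⟨k, hk⟩ 0 1 := by
    intro k
    induction k with
    | zero => intro hk; rw [pow_zero, one_smul]; exact e3
    | succ k ih =>
      intro hk
      rw [ShT_mul_single, hmul, ih, hT, Matrix.smul_mul, Matrix.mul_smul, smul_smul, pow_succ, mul_comm c']
  intro i j
  have e6 : (Matrix.single i j 1 : Matrix (Fin (n + 2)) (Fin (n + 2)) K) = Matrix.single i 0 1 * Matrix.single 0 j 1 := by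
    rw [Matrix.single_mul_single_same, mul_one]
  rw [e6, hmul, e4 j j.2, e5 i i.2, Matrix.smul_mul, Matrix.mul_smul, smul_smul]

/-- from the three pairs: the matrix units are fixed -/
theorem scal_one (hadd : ∀ X Y, f (X + Y) = f X + f Y) {c c' c₃ : K}
    (hu : ∀ i j : Fin (n + 2), f (Matrix.single i j 1) = (c' ^ (i : ℕ) * c ^ (j : ℕ)) • Matrix.single i j 1)
    (h3 : f (Hm n 1) = c₃ • Hm n 1) : c = 1 ∧ c₃ = 1 := by
  have hsub : ∀ X Y, f (X - Y) = f X - f Y := by
    intro X Y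
    have h := hadd (X - Y) Y
    rw [sub_add_cancel] at h
    rw [h, add_sub_cancel_right]
  have h4 : f (Hm n 1) = Matrix.single 0 0 1 - c • Matrix.single 0 1 1 + c' • Matrix.single 1 0 1 - (c' * c) • Matrix.single 1 1 1 := by
    rw [Hm_eq, hsub, hadd, hsub, hu, hu, hu, hu]
    simp
  rw [h4] at h3
  have e00 := congrFun (congrFun h3 0) 0
  have e01 := congrFun (congrFun h3 0) 1
  simp only [Matrix.sub_apply, Matrix.add_apply, Matrix.smul_apply, Matrix.single_apply, Hm_00, Hm_01] at e00 e01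
  simp at e00 e01
  rw [← e00] at e01
  exact ⟨by simpa using e01, e00.symm⟩

end

section

variable {K : Type*} [Field K] [Finite K] {a b : ℕ}
  {F : Matrix (Fin (a + 2) × Fin (b + 2)) (Fin (a + 2) × Fin (b + 2)) K →
    Matrix (Fin (a + 2) × Fin (b + 2)) (Fin (a + 2) × Fin (b + 2)) K}

theorem Hm_ne (n : ℕ) (γ : K) : Hm n γ ≠ 0 := by
  intro h
  have := congrFun (congrFun h 0) 1
  rw [Hm_01] at this
  simp at this

theorem Sh_ne (n : ℕ) : Sh K (n + 2) ≠ 0 := by
  intro h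
  have := congrFun (congrFun h 0) 1
  simp [Sh] at this

theorem ShT_ne (n : ℕ) : (Sh K (n + 2))ᵀ ≠ 0 := by
  intro h
  apply Sh_ne (K := K) n
  rw [← Matrix.transpose_transpose (Sh K (n + 2)), h, Matrix.transpose_zero]

/-- **Automorphisms.** -/
theorem auto_fix (D : Data F) (hmul : ∀ X Y, F (X * Y) = F X * F Y)
    (h1 : F (Sh K (a + 2) ⊗ₖ Sh K (b + 2)) = Sh K (a + 2) ⊗ₖ Sh K (b + 2))
    (h2 : F ((Sh K (a + 2))ᵀ ⊗ₖ (Sh K (b + 2))ᵀ) = (Sh K (a + 2))ᵀ ⊗ₖ (Sh K (b + 2))ᵀ)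
    {γ : K} (hγ : ∀ t : K, t ≠ 0 → ∃ k : ℕ, t = γ ^ k)
    (h3 : F (Hm a 1 ⊗ₖ Hm b γ) = Hm a 1 ⊗ₖ Hm b γ) (X : Matrix (Fin (a + 2) × Fin (b + 2)) (Fin (a + 2) × Fin (b + 2)) K) :
    F X = X := by
  obtain ⟨fU, hb, hU⟩ := D.exists_U
  obtain ⟨fY, hi, hY⟩ := D.exists_Y
  have hUadd : ∀ X Y, fU (X + Y) = fU X + fU Y := fun X Y => kron_inj_left (κ := Fin (b + 2)) (by
    rw [← hU, Matrix.add_kronecker, D.add, hU, hU, ← Matrix.add_kronecker])
  have hUmul : ∀ X Y, fU (X * Y) = fU X * fU Y := fun X Y => kron_inj_left (κ := Fin (b + 2)) (by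
    have e : ∀ A B : Matrix (Fin (a + 2)) (Fin (a + 2)) K, (A * B) ⊗ₖ (1 : Matrix (Fin (b + 2)) (Fin (b + 2)) K) =
      (A ⊗ₖ 1) * (B ⊗ₖ 1) := fun A B => by rw [← Matrix.mul_kronecker_mul, mul_one]
    rw [← hU, e, hmul, hU, hU, ← e])
  have hU1 : fU 1 = 1 := kron_inj_left (κ := Fin (b + 2)) (by rw [← hU, Matrix.one_kronecker_one, D.one])
  have hYadd : ∀ X Y, fY (X + Y) = fY X + fY Y := fun X Y => kron_inj_right (ι := Fin (a + 2)) (by
    rw [← hY, Matrix.kronecker_add, D.add, hY, hY, ← Matrix.kronecker_add])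
  have hYmul : ∀ X Y, fY (X * Y) = fY X * fY Y := fun X Y => kron_inj_right (ι := Fin (a + 2)) (by
    have e : ∀ A B : Matrix (Fin (b + 2)) (Fin (b + 2)) K, (1 : Matrix (Fin (a + 2)) (Fin (a + 2)) K) ⊗ₖ (A * B) =
      (1 ⊗ₖ A) * (1 ⊗ₖ B) := fun A B => by rw [← Matrix.mul_kronecker_mul, mul_one]
    rw [← hY, e, hmul, hY, hY, ← e])
  have hY1 : fY 1 = 1 := kron_inj_right (ι := Fin (a + 2)) (by rw [← hY, Matrix.one_kronecker_one, D.one])
  rw [D.kron hU hY] at h1 h2 h3
  obtain ⟨c, hc, hc1, hc2⟩ := pure_eq h1 (Sh_ne a) (Sh_ne b)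
  obtain ⟨c', hc', hc1', hc2'⟩ := pure_eq h2 (ShT_ne a) (ShT_ne b)
  obtain ⟨c₃, hc₃, hc₃1, hc₃2⟩ := pure_eq h3 (Hm_ne a 1) (Hm_ne b γ)
  obtain ⟨e1, e2⟩ := units hUadd hUmul hU1 hc hc' hc1 hc1'
  obtain ⟨rfl, rfl⟩ := scal_one hUadd e2 hc₃1
  have hc'1 : c' = 1 := by rw [← e1, mul_one]
  subst hc'1
  have e3 : ∀ i j, fU (Matrix.single i j 1) = Matrix.single i j 1 := by
    intro i j
    rw [e2, one_pow, one_pow, mul_one, one_smul]
  obtain ⟨-, e4⟩ := units hYadd hYmul hY1 (inv_ne_zero hc) (inv_ne_zero hc') hc2 hc2'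
  have e5 : ∀ i j, fY (Matrix.single i j 1) = Matrix.single i j 1 := by
    intro i j
    rw [e4, inv_one, one_pow, one_pow, mul_one, one_smul]
  rw [inv_one, one_smul] at hc₃2
  have e6 : fY (Matrix.single 0 0 γ) = Matrix.single 0 0 γ := by
    have e : (Matrix.single 0 0 γ : Matrix (Fin (b + 2)) (Fin (b + 2)) K) = Matrix.single 0 0 1 * Hm b γ * Matrix.single 0 0 1 := by
      rw [Matrix.single_mul_mul_single, Hm_00, one_mul, mul_one]
    rw [e, hYmul, hYmul, e5, hc₃2]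
  have e7 : ∀ t : K, fY (Matrix.single 0 0 t) = Matrix.single 0 0 t := by
    intro t
    by_cases ht : t = 0
    · subst ht
      rw [Matrix.single_zero]
      have h := hYadd 0 0
      rw [add_zero] at h
      exact left_eq_add.1 h
    · obtain ⟨k, rfl⟩ := hγ t ht
      clear ht
      induction k with
      | zero => rw [pow_zero]; exact e5 0 0
      | succ k ih =>
        have e : (Matrix.single 0 0 (γ ^ (k + 1)) : Matrix (Fin (b + 2)) (Fin (b + 2)) K) =
            Matrix.single 0 0 (γ ^ k) * Matrix.single 0 0 γ := by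
          rw [Matrix.single_mul_single_same, pow_succ]
        rw [e, hYmul, ih, e6]
  have e8 : ∀ (i j : Fin (a + 2)) (k l : Fin (b + 2)) (t : K),
      F (Matrix.single i j 1 ⊗ₖ Matrix.single k l t) = Matrix.single i j 1 ⊗ₖ Matrix.single k l t := by
    intro i j k l t
    have e : (Matrix.single k l t : Matrix (Fin (b + 2)) (Fin (b + 2)) K) =
        Matrix.single k 0 1 * Matrix.single 0 0 t * Matrix.single 0 l 1 := by
      rw [Matrix.single_mul_single_same, Matrix.single_mul_single_same, one_mul, mul_one]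
    rw [D.kron hU hY, e3, e, hYmul, hYmul, e5, e5, e7]
  let G : Matrix (Fin (a + 2) × Fin (b + 2)) (Fin (a + 2) × Fin (b + 2)) K →+
      Matrix (Fin (a + 2) × Fin (b + 2)) (Fin (a + 2) × Fin (b + 2)) K := ⟨⟨F, D.zero⟩, D.add⟩
  have e9 : ∀ p q t, G (Matrix.single p q t) = Matrix.single p q t := by
    rintro ⟨i, k⟩ ⟨j, l⟩ t
    have h := e8 i j k l t
    rw [Matrix.single_kronecker_single, one_mul] at h
    exact h
  change G X = X
  conv_lhs => rw [Matrix.matrix_eq_sum_single X]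
  conv_rhs => rw [Matrix.matrix_eq_sum_single X]
  rw [map_sum]
  refine Finset.sum_congr rfl fun p _ => ?_
  rw [map_sum]
  exact Finset.sum_congr rfl fun q _ => e9 p q _

theorem neg_kron {ι κ : Type*} (B : Matrix ι ι K) (h : Matrix κ κ K) : -(B ⊗ₖ h) = (-B) ⊗ₖ h := by
  ext ⟨i, j⟩ ⟨i', j'⟩
  simp

/-- **Anti-automorphisms**, first factor of dimension at least 3. -/
theorem anti_false_U {ι κ : Type*} [Fintype ι] [DecidableEq ι] [Fintype κ] [DecidableEq κ] [Nonempty ι] [Nonempty κ]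
    {F : Matrix (ι × κ) (ι × κ) K → Matrix (ι × κ) (ι × κ) K} (D : Data F)
    (hmul : ∀ X Y, F (X * Y) = F Y * F X) {B B' : Matrix ι ι K} {h h' : Matrix κ κ K} (hB0 : B ≠ 0) (hB0' : B' ≠ 0)
    (hh0 : h ≠ 0) (hh0' : h' ≠ 0) (h1 : F (B ⊗ₖ h) = -(B ⊗ₖ h)) (h2 : F (B' ⊗ₖ h') = -(B' ⊗ₖ h'))
    (hne : B * B' ≠ 0) (h0 : B' * B = 0) : False := by
  obtain ⟨fU, hb, hU⟩ := D.exists_U
  obtain ⟨fY, hi, hY⟩ := D.exists_Y
  have hUmul : ∀ X Y, fU (X * Y) = fU Y * fU X := fun X Y => kron_inj_left (κ := κ) (by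
    have e : ∀ A B : Matrix ι ι K, (A * B) ⊗ₖ (1 : Matrix κ κ K) =
      (A ⊗ₖ 1) * (B ⊗ₖ 1) := fun A B => by rw [← Matrix.mul_kronecker_mul, mul_one]
    rw [← hU, e, hmul, hU, hU, ← e])
  have hU0 : fU 0 = 0 := kron_inj_left (κ := κ) (by rw [← hU, Matrix.zero_kronecker, D.zero])
  rw [D.kron hU hY, neg_kron] at h1 h2
  obtain ⟨c, hc, hc1, -⟩ := pure_eq h1 (neg_ne_zero.2 hB0) hh0
  obtain ⟨c', hc', hc1', -⟩ := pure_eq h2 (neg_ne_zero.2 hB0') hh0'
  apply hne
  apply hb.1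
  rw [hUmul, hc1, hc1', hU0, Matrix.smul_mul, Matrix.mul_smul, neg_mul_neg, h0, smul_zero, smul_zero]

/-- **Anti-automorphisms**, second factor of dimension at least 3. -/
theorem anti_false_Y {ι κ : Type*} [Fintype ι] [DecidableEq ι] [Fintype κ] [DecidableEq κ] [Nonempty ι] [Nonempty κ]
    {F : Matrix (ι × κ) (ι × κ) K → Matrix (ι × κ) (ι × κ) K} (D : Data F)
    (hmul : ∀ X Y, F (X * Y) = F Y * F X) {B B' : Matrix ι ι K} {h h' : Matrix κ κ K} (hB0 : B ≠ 0) (hB0' : B' ≠ 0)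
    (hh0 : h ≠ 0) (hh0' : h' ≠ 0) (h1 : F (B ⊗ₖ h) = -(B ⊗ₖ h)) (h2 : F (B' ⊗ₖ h') = -(B' ⊗ₖ h'))
    (hne : h * h' ≠ 0) (h0 : h' * h = 0) : False := by
  obtain ⟨fU, hb, hU⟩ := D.exists_U
  obtain ⟨fY, hi, hY⟩ := D.exists_Y
  have hYmul : ∀ X Y, fY (X * Y) = fY Y * fY X := fun X Y => kron_inj_right (ι := ι) (by
    have e : ∀ A B : Matrix κ κ K, (1 : Matrix ι ι K) ⊗ₖ (A * B) =
      (1 ⊗ₖ A) * (1 ⊗ₖ B) := fun A B => by rw [← Matrix.mul_kronecker_mul, mul_one]
    rw [← hY, e, hmul, hY, hY, ← e])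
  have hY0 : fY 0 = 0 := kron_inj_right (ι := ι) (by rw [← hY, Matrix.kronecker_zero, D.zero])
  rw [D.kron hU hY, neg_kron] at h1 h2
  obtain ⟨c, hc, -, hc1⟩ := pure_eq h1 (neg_ne_zero.2 hB0) hh0
  obtain ⟨c', hc', -, hc1'⟩ := pure_eq h2 (neg_ne_zero.2 hB0') hh0'
  apply hne
  apply hi
  rw [hYmul, hc1, hc1', hY0, Matrix.smul_mul, Matrix.mul_smul, h0, smul_zero, smul_zero]

theorem Sh_two : Sh K (0 + 2) = Matrix.single 0 1 1 := by
  ext i j
  fin_cases i <;> fin_cases j <;> simp [Sh]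

/-- **Anti-automorphisms**, dimensions `2, 2`, odd characteristic. -/
theorem anti_false_two {F : Matrix (Fin (0 + 2) × Fin (0 + 2)) (Fin (0 + 2) × Fin (0 + 2)) K →
    Matrix (Fin (0 + 2) × Fin (0 + 2)) (Fin (0 + 2) × Fin (0 + 2)) K} (D : Data F)
    (hmul : ∀ X Y, F (X * Y) = F Y * F X) (h20 : (2 : K) ≠ 0)
    (h1 : F (Sh K (0 + 2) ⊗ₖ Sh K (0 + 2)) = -(Sh K (0 + 2) ⊗ₖ Sh K (0 + 2)))
    (h2 : F ((Sh K (0 + 2))ᵀ ⊗ₖ (Sh K (0 + 2))ᵀ) = -((Sh K (0 + 2))ᵀ ⊗ₖ (Sh K (0 + 2))ᵀ))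
    (h3 : F (Hm 0 1 ⊗ₖ Hm 0 1) = -(Hm 0 1 ⊗ₖ Hm 0 1)) : False := by
  obtain ⟨fU, hb, hU⟩ := D.exists_U
  obtain ⟨fY, hi, hY⟩ := D.exists_Y
  have hUadd : ∀ X Y, fU (X + Y) = fU X + fU Y := fun X Y => kron_inj_left (κ := Fin (0 + 2)) (by
    rw [← hU, Matrix.add_kronecker, D.add, hU, hU, ← Matrix.add_kronecker])
  have hYadd : ∀ X Y, fY (X + Y) = fY X + fY Y := fun X Y => kron_inj_right (ι := Fin (0 + 2)) (by
    rw [← hY, Matrix.kronecker_add, D.add, hY, hY, ← Matrix.kronecker_add])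
  have hUmul : ∀ X Y, fU (X * Y) = fU Y * fU X := fun X Y => kron_inj_left (κ := Fin (0 + 2)) (by
    have e : ∀ A B : Matrix (Fin (0 + 2)) (Fin (0 + 2)) K, (A * B) ⊗ₖ (1 : Matrix (Fin (0 + 2)) (Fin (0 + 2)) K) =
      (A ⊗ₖ 1) * (B ⊗ₖ 1) := fun A B => by rw [← Matrix.mul_kronecker_mul, mul_one]
    rw [← hU, e, hmul, hU, hU, ← e])
  have hYmul : ∀ X Y, fY (X * Y) = fY Y * fY X := fun X Y => kron_inj_right (ι := Fin (0 + 2)) (by
    have e : ∀ A B : Matrix (Fin (0 + 2)) (Fin (0 + 2)) K, (1 : Matrix (Fin (0 + 2)) (Fin (0 + 2)) K) ⊗ₖ (A * B) =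
      (1 ⊗ₖ A) * (1 ⊗ₖ B) := fun A B => by rw [← Matrix.mul_kronecker_mul, mul_one]
    rw [← hY, e, hmul, hY, hY, ← e])
  have hU1 : fU 1 = 1 := kron_inj_left (κ := Fin (0 + 2)) (by rw [← hU, Matrix.one_kronecker_one, D.one])
  have hUsub : ∀ X Y, fU (X - Y) = fU X - fU Y := by
    intro X Y
    have h := hUadd (X - Y) Y
    rw [sub_add_cancel] at h
    rw [h, add_sub_cancel_right]
  have hYsub : ∀ X Y, fY (X - Y) = fY X - fY Y := by
    intro X Y
    have h := hYadd (X - Y) Y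
    rw [sub_add_cancel] at h
    rw [h, add_sub_cancel_right]
  rw [D.kron hU hY, neg_kron] at h1 h2 h3
  obtain ⟨c, hc, hc1, hc2⟩ := pure_eq h1 (neg_ne_zero.2 (Sh_ne 0)) (Sh_ne 0)
  obtain ⟨d, hd, hd1, hd2⟩ := pure_eq h2 (neg_ne_zero.2 (ShT_ne 0)) (ShT_ne 0)
  obtain ⟨k, hk, hk1, hk2⟩ := pure_eq h3 (neg_ne_zero.2 (Hm_ne 0 1)) (Hm_ne 0 1)
  rw [Sh_two] at hc1 hc2
  rw [Sh_two, Matrix.transpose_single] at hd1 hd2
  have u00 : fU (Matrix.single 0 0 1) = (d * c) • Matrix.single 1 1 1 := by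
    have e : (Matrix.single 0 0 1 : Matrix (Fin (0 + 2)) (Fin (0 + 2)) K) = Matrix.single 0 1 1 * Matrix.single 1 0 1 := by
      rw [Matrix.single_mul_single_same, mul_one]
    rw [e, hUmul, hc1, hd1, Matrix.smul_mul, Matrix.mul_smul, smul_smul, neg_mul_neg, Matrix.single_mul_single_same, mul_one]
  have u11 : fU (Matrix.single 1 1 1) = (c * d) • Matrix.single 0 0 1 := by
    have e : (Matrix.single 1 1 1 : Matrix (Fin (0 + 2)) (Fin (0 + 2)) K) = Matrix.single 1 0 1 * Matrix.single 0 1 1 := by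
      rw [Matrix.single_mul_single_same, mul_one]
    rw [e, hUmul, hc1, hd1, Matrix.smul_mul, Matrix.mul_smul, smul_smul, neg_mul_neg, Matrix.single_mul_single_same, mul_one]
  have y00 : fY (Matrix.single 0 0 1) = (d⁻¹ * c⁻¹) • Matrix.single 1 1 1 := by
    have e : (Matrix.single 0 0 1 : Matrix (Fin (0 + 2)) (Fin (0 + 2)) K) = Matrix.single 0 1 1 * Matrix.single 1 0 1 := by
      rw [Matrix.single_mul_single_same, mul_one]
    rw [e, hYmul, hc2, hd2, Matrix.smul_mul, Matrix.mul_smul, smul_smul, Matrix.single_mul_single_same, mul_one]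
  have y11 : fY (Matrix.single 1 1 1) = (c⁻¹ * d⁻¹) • Matrix.single 0 0 1 := by
    have e : (Matrix.single 1 1 1 : Matrix (Fin (0 + 2)) (Fin (0 + 2)) K) = Matrix.single 1 0 1 * Matrix.single 0 1 1 := by
      rw [Matrix.single_mul_single_same, mul_one]
    rw [e, hYmul, hc2, hd2, Matrix.smul_mul, Matrix.mul_smul, smul_smul, Matrix.single_mul_single_same, mul_one]
  rw [Hm_eq, hUsub, hUadd, hUsub, u00, u11, hc1, hd1] at hk1
  rw [Hm_eq, hYsub, hYadd, hYsub, y00, y11, hc2, hd2] at hk2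
  have e00 := congrFun (congrFun hk1 0) 0
  have e01 := congrFun (congrFun hk1 0) 1
  have f00 := congrFun (congrFun hk2 0) 0
  have f01 := congrFun (congrFun hk2 0) 1
  simp [Matrix.sub_apply, Matrix.add_apply, Matrix.smul_apply] at e00 e01 f00 f01
  have hcd : c * d = 1 := by
    have h4 := hU1
    have e : (1 : Matrix (Fin (0 + 2)) (Fin (0 + 2)) K) = Matrix.single 0 0 1 + Matrix.single 1 1 1 := by
      ext i j
      fin_cases i <;> fin_cases j <;> simp
    rw [e, hUadd, u00, u11] at h4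
    have h5 := congrFun (congrFun h4 0) 0
    simpa using h5
  have hk1' : k = 1 := e00.symm.trans hcd
  rw [← mul_inv, hcd, hk1', inv_one] at f00
  apply h20
  linear_combination -f00

end

end Cfsg.Agent.H195.FC
end

-- part: H195/FC/C4
section
/-!
# S5764, L-C4: tensor decompositions (helper195)
-/

set_option autoImplicit false
set_option linter.unusedSectionVars false

namespace Cfsg.Agent.H195.FC

open Matrix Cfsg.Agent.H198.FC
open scoped Kronecker

universe u v

theorem det_one_of_nilp {K : Type*} [Field K] {V : Type*} [AddCommGroup V] [Module K V] [FiniteDimensional K V]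
    {f : V →ₗ[K] V} (h : IsNilpotent (f - 1)) : LinearMap.det f = 1 := by
  have h1 : IsNilpotent (1 - f) := by
    rw [← neg_sub]
    exact h.neg
  have h2 := h1.charpoly_eq_X_pow_finrank
  have h3 := LinearMap.eval_charpoly (1 - f) (1 : K)
  rw [h2, Polynomial.eval_pow, Polynomial.eval_X, one_pow] at h3
  rw [h3, map_one]
  congr 1
  abel

section

variable {K : Type u} [Field K] [Finite K] {V : Type v} [AddCommGroup V] [Module K V] [Module.Finite K V]
  {ι κ : Type} [Fintype ι] [DecidableEq ι] [Fintype κ] [DecidableEq κ] [Nonempty ι] [Nonempty κ]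
  (Φ : Matrix (ι × κ) (ι × κ) K ≃ₐ[K] R K V)

/-- `f` in matrix form -/
def mf (f : Equiv.Perm (R K V)) (X : Matrix (ι × κ) (ι × κ) K) : Matrix (ι × κ) (ι × κ) K := Φ.symm (f (Φ X))

theorem data {f : Equiv.Perm (R K V)} (hf : f ∈ RA K V)
    (hpres : ∀ B : Matrix ι ι K, ∃ B' : Matrix ι ι K, f (Φ (B ⊗ₖ (1 : Matrix κ κ K))) = Φ (B' ⊗ₖ (1 : Matrix κ κ K))) :
    Data (mf Φ f) where
  add X Y := by unfold mf; rw [map_add, hf.1, map_add]
  inj X Y h := by
    unfold mf at h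
    exact Φ.injective (f.injective (Φ.symm.injective h))
  mul := by
    rcases hf.2 with h | h
    · left; intro X Y; unfold mf; rw [map_mul, h, map_mul]
    · right; intro X Y; unfold mf; rw [map_mul, h, map_mul]
  pres B := by
    obtain ⟨B', hB'⟩ := hpres B
    refine ⟨B', ?_⟩
    unfold mf
    rw [hB', AlgEquiv.symm_apply_apply]

/-- the unit of `R` -/
def un (U : (Matrix (ι × κ) (ι × κ) K)ˣ) : (R K V)ˣ := Units.map (Φ : Matrix (ι × κ) (ι × κ) K →* R K V) U

theorem step {S : Subgroup (Equiv.Perm (R K V))} (hS : S ≤ RA K V)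
    (hpres : ∀ f ∈ S, ∀ B : Matrix ι ι K, ∃ B' : Matrix ι ι K, f (Φ (B ⊗ₖ (1 : Matrix κ κ K))) = Φ (B' ⊗ₖ (1 : Matrix κ κ K)))
    {f : Equiv.Perm (R K V)} (hf : f ∈ S) (U : (Matrix (ι × κ) (ι × κ) K)ˣ) {B : Matrix ι ι K} {h : Matrix κ κ K} {n : ℕ}
    (hn : 0 < n) (hB : B ^ n = 0) (hh : h ^ n = 0) (hB0 : B ≠ 0) (hh0 : h ≠ 0)
    (hU : (U : Matrix (ι × κ) (ι × κ) K) = 1 + B ⊗ₖ h)
    (hm : cj K V (un Φ U) * f * (cj K V (un Φ U))⁻¹ ∈ S) :
    ((∀ X Y, mf Φ f (X * Y) = mf Φ f X * mf Φ f Y) → mf Φ f (B ⊗ₖ h) = B ⊗ₖ h) ∧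
    ((∀ X Y, mf Φ f (X * Y) = mf Φ f Y * mf Φ f X) → B ^ 2 = 0 → mf Φ f (B ⊗ₖ h) = -(B ⊗ₖ h)) := by
  have D := data Φ (hS hf) (hpres f hf)
  have key := D.main hn hB hh hB0 hh0 hU U.mul_inv U.inv_mul (by
    intro C
    obtain ⟨E, hE⟩ := hpres _ hm C
    refine ⟨E, ?_⟩
    have e1 : (cj K V (un Φ U) * f * (cj K V (un Φ U))⁻¹) (Φ (C ⊗ₖ (1 : Matrix κ κ K))) =
        Φ (U : Matrix (ι × κ) (ι × κ) K) * f (Φ ((U⁻¹ : (Matrix (ι × κ) (ι × κ) K)ˣ) : Matrix (ι × κ) (ι × κ) K) *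
          Φ (C ⊗ₖ (1 : Matrix κ κ K)) * Φ (U : Matrix (ι × κ) (ι × κ) K)) *
          Φ ((U⁻¹ : (Matrix (ι × κ) (ι × κ) K)ˣ) : Matrix (ι × κ) (ι × κ) K) := by
      have e2 : (cj K V (un Φ U))⁻¹ = cj K V (un Φ U)⁻¹ := (map_inv _ _).symm
      rw [e2, Equiv.Perm.mul_apply, Equiv.Perm.mul_apply, cj_apply, cj_apply, inv_inv]
      rfl
    rw [e1, ← map_mul, ← map_mul] at hE
    have e3 := congrArg Φ.symm hE
    rw [map_mul, map_mul, AlgEquiv.symm_apply_apply, AlgEquiv.symm_apply_apply, AlgEquiv.symm_apply_apply] at e3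
    exact e3)
  constructor
  · intro hmul
    have h1 := key.1 hmul
    rw [hU, D.add, D.one] at h1
    exact add_left_cancel h1
  · intro hmul hB2
    have h1 := key.2 hmul
    rw [hU, D.add, D.one] at h1
    have h2 : (B ⊗ₖ h) * (B ⊗ₖ h) = 0 := by
      rw [← Matrix.mul_kronecker_mul, ← pow_two, hB2, Matrix.zero_kronecker]
    set T := B ⊗ₖ h with hT
    have h3 : (1 - T) * ((1 + T) * (1 + mf Φ f T)) = 1 - T := by rw [h1, mul_one]
    have h4 : (1 - T) * ((1 + T) * (1 + mf Φ f T)) = (1 - T * T) * (1 + mf Φ f T) := by noncomm_ring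
    rw [h4, h2, sub_zero, one_mul, sub_eq_add_neg] at h3
    exact add_left_cancel h3

theorem exists_unit {T : Matrix (ι × κ) (ι × κ) K} {n : ℕ} (hT : T ^ n = 0) :
    ∃ U : (Matrix (ι × κ) (ι × κ) K)ˣ, (U : Matrix (ι × κ) (ι × κ) K) = 1 + T ∧
      LinearMap.det ((un Φ U : (R K V)ˣ) : R K V) = 1 := by
  have hnil : IsNilpotent T := ⟨n, hT⟩
  obtain ⟨U, hU⟩ := hnil.isUnit_one_add
  refine ⟨U, hU, ?_⟩
  apply det_one_of_nilp
  refine ⟨n, ?_⟩
  have e : ((un Φ U : (R K V)ˣ) : R K V) - 1 = Φ T := by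
    change Φ (U : Matrix (ι × κ) (ι × κ) K) - 1 = Φ T
    rw [hU, map_add, map_one, add_sub_cancel_left]
  rw [e, ← map_pow, hT, map_zero]

end

theorem single_sq {K : Type*} [Field K] {m : ℕ} {i j : Fin m} (h : i ≠ j) : (Matrix.single i j (1 : K)) ^ 2 = 0 := by
  rw [pow_two, Matrix.single_mul_single_of_ne _ _ _ _ (Ne.symm h)]

theorem single_ne {K : Type*} [Field K] {m : ℕ} (i j : Fin m) : Matrix.single i j (1 : K) ≠ 0 := by
  intro h
  have h1 := congrFun (congrFun h i) j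
  simp at h1

theorem Hm_mul {K : Type*} [Field K] {a : ℕ} {γ : K} (hγ : γ ≠ 0) (i : Fin (a + 2)) : Hm a γ * Matrix.single 0 i 1 ≠ 0 := by
  intro h
  have h1 := congrFun (congrFun h 0) i
  rw [Matrix.mul_single_apply_same, Hm_00, mul_one] at h1
  exact hγ h1

theorem mul_Hm {K : Type*} [Field K] {a : ℕ} (γ : K) {i : Fin (a + 2)} (h0 : i ≠ 0) (h1 : i ≠ 1) : Matrix.single 0 i 1 * Hm a γ = 0 := by
  have h2 : ∀ j, Hm a γ i j = 0 := by
    intro j
    simp [Hm, vecMulVec_apply, h0, h1]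
  ext k j
  by_cases hk : k = 0
  · subst hk
    rw [Matrix.single_mul_apply_same, h2, mul_zero, Matrix.zero_apply]
  · exact Matrix.single_mul_apply_of_ne _ _ _ _ _ hk _

/-- `StmtC4` with the hypothesis `(u' : K) ≠ 0`. -/
def StmtC4' : Prop :=
  ∀ (K : Type u) [Field K] [Finite K] (V : Type v) [AddCommGroup V] [Module K V] [Module.Finite K V]
    (S : Subgroup (Equiv.Perm (R K V))), S ≤ RA K V → Group.IsSolvable S →
    ∀ (u' y : ℕ) (Φ : Matrix (Fin u' × Fin y) (Fin u' × Fin y) K ≃ₐ[K] R K V), 2 ≤ u' → 2 ≤ y → (u' : K) ≠ 0 →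
    (∀ f ∈ S, ∀ B : Matrix (Fin u') (Fin u') K, ∃ B' : Matrix (Fin u') (Fin u') K,
      f (Φ (Matrix.kroneckerMap (· * ·) B (1 : Matrix (Fin y) (Fin y) K))) =
        Φ (Matrix.kroneckerMap (· * ·) B' (1 : Matrix (Fin y) (Fin y) K))) → Five S

theorem stmtC4' : StmtC4'.{u, v} := by
  intro K _ _ V _ _ _ S hS _ u' y Φ hu hy hchar hpres
  obtain ⟨a, rfl⟩ : ∃ a, u' = a + 2 := ⟨u' - 2, by omega⟩
  obtain ⟨b, rfl⟩ : ∃ b, y = b + 2 := ⟨y - 2, by omega⟩
  obtain ⟨g, hg⟩ := IsCyclic.exists_monoid_generator (α := Kˣ)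
  have hγ : ∀ t : K, t ≠ 0 → ∃ k : ℕ, t = (g : K) ^ k := by
    intro t ht
    obtain ⟨k, hk⟩ := hg (Units.mk0 t ht)
    refine ⟨k, ?_⟩
    have := congrArg (Units.val) hk
    simpa using this.symm
  have hγ0 : (g : K) ≠ 0 := g.ne_zero
  -- the fourth pair
  obtain ⟨B₄, h₄, hB4, hh4, hB40, hh40, hanti⟩ : ∃ (B₄ : Matrix (Fin (a + 2)) (Fin (a + 2)) K)
      (h₄ : Matrix (Fin (b + 2)) (Fin (b + 2)) K), B₄ ^ 2 = 0 ∧ h₄ ^ 2 = 0 ∧ B₄ ≠ 0 ∧ h₄ ≠ 0 ∧
      ∀ F, Data F → (∀ X Y, F (X * Y) = F Y * F X) → F (B₄ ⊗ₖ h₄) = -(B₄ ⊗ₖ h₄) →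
        F (Hm a 1 ⊗ₖ Hm b (g : K)) = -(Hm a 1 ⊗ₖ Hm b (g : K)) →
        (Sh K (a + 2) ^ 2 = 0 → F (Sh K (a + 2) ⊗ₖ Sh K (b + 2)) = -(Sh K (a + 2) ⊗ₖ Sh K (b + 2))) →
        ((Sh K (a + 2))ᵀ ^ 2 = 0 → F ((Sh K (a + 2))ᵀ ⊗ₖ (Sh K (b + 2))ᵀ) = -((Sh K (a + 2))ᵀ ⊗ₖ (Sh K (b + 2))ᵀ)) → False := by
    by_cases ha : 1 ≤ a
    · have n0 : (⟨2, by omega⟩ : Fin (a + 2)) ≠ 0 := by simp [Fin.ext_iff]
      have n1 : (⟨2, by omega⟩ : Fin (a + 2)) ≠ 1 := by simp [Fin.ext_iff]
      refine ⟨Matrix.single 0 ⟨2, by omega⟩ 1, Matrix.single 0 1 1, single_sq (Ne.symm n0), single_sq (by simp),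
        single_ne _ _, single_ne _ _, fun F D hm h4 h3 _ _ => ?_⟩
      exact anti_false_U D hm (Hm_ne a 1) (single_ne _ _) (Hm_ne b _) (single_ne _ _) h3 h4
        (Hm_mul one_ne_zero _) (mul_Hm 1 n0 n1)
    by_cases hb : 1 ≤ b
    · have n0 : (⟨2, by omega⟩ : Fin (b + 2)) ≠ 0 := by simp [Fin.ext_iff]
      have n1 : (⟨2, by omega⟩ : Fin (b + 2)) ≠ 1 := by simp [Fin.ext_iff]
      refine ⟨Matrix.single 0 1 1, Matrix.single 0 ⟨2, by omega⟩ 1, single_sq (by simp), single_sq (Ne.symm n0),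
        single_ne _ _, single_ne _ _, fun F D hm h4 h3 _ _ => ?_⟩
      exact anti_false_Y D hm (Hm_ne a 1) (single_ne _ _) (Hm_ne b _) (single_ne _ _) h3 h4
        (Hm_mul hγ0 _) (mul_Hm _ n0 n1)
    obtain rfl : a = 0 := by omega
    obtain rfl : b = 0 := by omega
    refine ⟨Hm 0 1, Hm 0 1, Hm_sq _ _, Hm_sq _ _, Hm_ne _ _, Hm_ne _ _, fun F D hm h4 _ h1 h2 => ?_⟩
    exact anti_false_two D hm (by simpa using hchar) (h1 (Sh_nil _)) (h2 (ShT_nil _)) h4
  set N := a + b + 2 with hN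
  have hle : ∀ {ι : Type} [Fintype ι] [DecidableEq ι] {M : Matrix ι ι K} {m : ℕ}, M ^ m = 0 → m ≤ N → M ^ N = 0 :=
    fun h hm => pow_eq_zero_of_le hm h
  have hT : ∀ (B : Matrix (Fin (a + 2)) (Fin (a + 2)) K) (h : Matrix (Fin (b + 2)) (Fin (b + 2)) K), B ^ N = 0 → (B ⊗ₖ h) ^ N = 0 := by
    intro B h hB
    rw [kron_pow, hB, Matrix.zero_kronecker]
  obtain ⟨U₁, hU₁, hd₁⟩ := exists_unit Φ (hT (Sh K (a + 2)) (Sh K (b + 2)) (hle (Sh_nil _) (by omega)))
  obtain ⟨U₂, hU₂, hd₂⟩ := exists_unit Φ (hT (Sh K (a + 2))ᵀ (Sh K (b + 2))ᵀ (hle (ShT_nil _) (by omega)))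
  obtain ⟨U₃, hU₃, hd₃⟩ := exists_unit Φ (hT (Hm a 1) (Hm b (g : K)) (hle (Hm_sq _ _) (by omega)))
  obtain ⟨U₄, hU₄, hd₄⟩ := exists_unit Φ (hT B₄ h₄ (hle hB4 (by omega)))
  refine ⟨![un Φ U₁, un Φ U₂, un Φ U₃, un Φ U₄], ?_, ?_⟩
  · intro i
    fin_cases i
    · exact hd₁
    · exact hd₂
    · exact hd₃
    · exact hd₄
  · intro f hf hi
    have s1 := step Φ hS hpres hf U₁ (n := N) (by omega) (hle (Sh_nil _) (by omega)) (hle (Sh_nil _) (by omega)) (Sh_ne a) (Sh_ne b) hU₁ (hi 0)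
    have s2 := step Φ hS hpres hf U₂ (n := N) (by omega) (hle (ShT_nil _) (by omega)) (hle (ShT_nil _) (by omega)) (ShT_ne a) (ShT_ne b) hU₂ (hi 1)
    have s3 := step Φ hS hpres hf U₃ (n := N) (by omega) (hle (Hm_sq _ _) (by omega)) (hle (Hm_sq _ _) (by omega)) (Hm_ne a 1) (Hm_ne b _) hU₃ (hi 2)
    have s4 := step Φ hS hpres hf U₄ (n := N) (by omega) (hle hB4 (by omega)) (hle hh4 (by omega)) hB40 hh40 hU₄ (hi 3)
    have D := data Φ (hS hf) (hpres f hf)
    rcases D.mul with hm | hm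
    · have h5 := auto_fix D hm (s1.1 hm) (s2.1 hm) hγ (s3.1 hm)
      apply Equiv.ext
      intro X
      have h6 := h5 (Φ.symm X)
      unfold mf at h6
      rw [AlgEquiv.apply_symm_apply] at h6
      exact Φ.symm.injective h6
    · exact (hanti _ D hm (s4.2 hm hB4) (s3.2 hm (Hm_sq _ _)) (s1.2 hm) (s2.2 hm)).elim

end Cfsg.Agent.H195.FC
end

-- part: H195/FC/C4Full
section
/-!
# S5764, L-C4: tensor decompositions, all characteristics (helper195)
-/

set_option autoImplicit false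
set_option linter.unusedSectionVars false

namespace Cfsg.Agent.H195.FC

open Matrix Cfsg.Agent.H198.FC
open scoped Kronecker

universe u v

/-- the variant of helper786 -/
theorem stmtC4n : Cfsg.Agent.H786.FC.StmtC4n.{u, v} := stmtC4'

/-- **StmtC4**, by the three automorphism-killers and T3 of helper55 -/
theorem stmtC4 : StmtC4.{u, v} := by
  intro K _ _ V _ _ _ S hS hsol u' y Φ hu hy hpres
  have hfin : Module.finrank K V = u' * y := by
    have h1 := Φ.toLinearEquiv.finrank_eq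
    rw [Module.finrank_matrix, Module.finrank_self, mul_one] at h1
    have h2 : Module.finrank K (R K V) = Module.finrank K V * Module.finrank K V := Module.finrank_linearMap K K V V
    rw [h2, Fintype.card_prod, Fintype.card_fin, Fintype.card_fin] at h1
    exact (Nat.mul_self_inj.1 h1).symm
  obtain ⟨a, rfl⟩ : ∃ a, u' = a + 2 := ⟨u' - 2, by omega⟩
  obtain ⟨b, rfl⟩ : ∃ b, y = b + 2 := ⟨y - 2, by omega⟩
  obtain ⟨g, hg⟩ := IsCyclic.exists_monoid_generator (α := Kˣ)
  have hγ : ∀ t : K, t ≠ 0 → ∃ k : ℕ, t = (g : K) ^ k := by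
    intro t ht
    obtain ⟨k, hk⟩ := hg (Units.mk0 t ht)
    refine ⟨k, ?_⟩
    have := congrArg (Units.val) hk
    simpa using this.symm
  set N := a + b + 2 with hN
  have hle : ∀ {ι : Type} [Fintype ι] [DecidableEq ι] {M : Matrix ι ι K} {m : ℕ}, M ^ m = 0 → m ≤ N → M ^ N = 0 :=
    fun h hm => pow_eq_zero_of_le hm h
  have hT : ∀ (B : Matrix (Fin (a + 2)) (Fin (a + 2)) K) (h : Matrix (Fin (b + 2)) (Fin (b + 2)) K), B ^ N = 0 → (B ⊗ₖ h) ^ N = 0 := by
    intro B h hB
    rw [kron_pow, hB, Matrix.zero_kronecker]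
  obtain ⟨U₁, hU₁, hd₁⟩ := exists_unit Φ (hT (Sh K (a + 2)) (Sh K (b + 2)) (hle (Sh_nil _) (by omega)))
  obtain ⟨U₂, hU₂, hd₂⟩ := exists_unit Φ (hT (Sh K (a + 2))ᵀ (Sh K (b + 2))ᵀ (hle (ShT_nil _) (by omega)))
  obtain ⟨U₃, hU₃, hd₃⟩ := exists_unit Φ (hT (Hm a 1) (Hm b (g : K)) (hle (Hm_sq _ _) (by omega)))
  refine Cfsg.Agent.H55.FC.five_of_three (by rw [hfin]; nlinarith) S hS hsol ![un Φ U₁, un Φ U₂, un Φ U₃] ?_ ?_
  · intro i
    fin_cases i
    · exact hd₁
    · exact hd₂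
    · exact hd₃
  · intro f hfm hi
    have hf : f ∈ S := hfm.1
    have s1 := step Φ hS hpres hf U₁ (n := N) (by omega) (hle (Sh_nil _) (by omega)) (hle (Sh_nil _) (by omega)) (Sh_ne a) (Sh_ne b) hU₁ (hi 0)
    have s2 := step Φ hS hpres hf U₂ (n := N) (by omega) (hle (ShT_nil _) (by omega)) (hle (ShT_nil _) (by omega)) (ShT_ne a) (ShT_ne b) hU₂ (hi 1)
    have s3 := step Φ hS hpres hf U₃ (n := N) (by omega) (hle (Hm_sq _ _) (by omega)) (hle (Hm_sq _ _) (by omega)) (Hm_ne a 1) (Hm_ne b _) hU₃ (hi 2)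
    have D := data Φ (hS hf) (hpres f hf)
    have hm : ∀ X Y, mf Φ f (X * Y) = mf Φ f X * mf Φ f Y := by
      intro X Y
      unfold mf
      rw [map_mul, hfm.2.2, map_mul]
    have h5 := auto_fix D hm (s1.1 hm) (s2.1 hm) hγ (s3.1 hm)
    apply Equiv.ext
    intro X
    have h6 := h5 (Φ.symm X)
    unfold mf at h6
    rw [AlgEquiv.apply_symm_apply] at h6
    exact Φ.symm.injective h6

end Cfsg.Agent.H195.FC
end

-- part: H706/FC/Spei
section
/-!
# S5764: choice of the scalar of a transvection (helper706)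

`exists_scalar` : `C ≤ RP` a group fixing the line `K N`, the `K`-linear elements being trivial; then for some `c ≠ 0` no
non-trivial element of `C` fixes `c N` (Dedekind's independence).
`mem_A_of_cent` : a unit which centralizes `A` modulo scalars is a lift of an element of `A`.
-/

set_option autoImplicit false

namespace Cfsg.Agent.H706.FC

open Module Cfsg.Agent.H198.FC Cfsg.Agent.H277.FC

universe u v

section spei

variable {K : Type u} [Field K] {V : Type v} [AddCommGroup V] [Module K V]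

/-- the field automorphism of a ring automorphism of `R` -/
theorem RP_sigma [Nontrivial V] {f : Equiv.Perm (R K V)} (hf : f ∈ RP K V) :
    ∃ σ : K ≃+* K, ∀ (a : K) (X : R K V), f (a • X) = σ a • f X := by
  let F : Module.End K V ≃+* Module.End K V :=
    { f with
      map_mul' := hf.2
      map_add' := hf.1 }
  obtain ⟨σ, hσ⟩ := exists_sigma F
  refine ⟨σ, fun a X => ?_⟩
  have h1 : a • X = (a • (1 : R K V)) * X := by rw [smul_mul_assoc, one_mul]
  have h2 : f (a • (1 : R K V)) = σ a • (1 : R K V) := hσ a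
  rw [h1, hf.2, h2, smul_mul_assoc, one_mul]

theorem exists_scalar [Finite K] [Nontrivial V] [Module.Finite K V] {C : Subgroup (Equiv.Perm (R K V))}
    (hC : C ≤ RP K V) {N : R K V} (hN : N ≠ 0) (hk : ∀ f ∈ C, ∃ κ : K, f N = κ • N)
    (hlin : ∀ f ∈ C, (∀ (a : K) (X : R K V), f (a • X) = a • f X) → f = 1) :
    ∃ c : K, c ≠ 0 ∧ ∀ f ∈ C, f (c • N) = c • N → f = 1 := by
  classical
  have : Finite (R K V) := Module.finite_of_finite K
  have : Fintype C := Fintype.ofFinite C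
  choose σ hσ using fun f : C => RP_sigma (hC f.2)
  choose κ hκ using fun f : C => hk f f.2
  have hinj : ∀ f g : C, (∀ a, σ f a = σ g a) → f = g := by
    intro f g h
    have h1 : ((g⁻¹ * f : C) : Equiv.Perm (R K V)) = 1 := by
      refine hlin _ (g⁻¹ * f).2 fun a X => ?_
      have h2 : (g : Equiv.Perm (R K V)) (((g⁻¹ * f : C) : Equiv.Perm (R K V)) (a • X)) =
          (g : Equiv.Perm (R K V)) (a • ((g⁻¹ * f : C) : Equiv.Perm (R K V)) X) := by
        have hgi : ∀ Y, (g : Equiv.Perm (R K V)) ((g : Equiv.Perm (R K V))⁻¹ Y) = Y := fun Y =>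
          Equiv.apply_symm_apply _ _
        rw [hσ g]
        simp only [Subgroup.coe_mul, Subgroup.coe_inv, Equiv.Perm.mul_apply, hgi]
        rw [hσ f, h a]
      exact (g : Equiv.Perm (R K V)).injective h2
    have h3 : g⁻¹ * f = 1 := Subtype.ext h1
    exact (inv_mul_eq_one.1 h3).symm
  -- Dedekind
  have hli : LinearIndependent K (fun f : C => ((σ f : K ≃+* K).toMonoidHom : K → K)) := by
    have h1 := linearIndependent_monoidHom K K
    refine h1.comp (fun f : C => (σ f : K ≃+* K).toMonoidHom) ?_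
    intro f g h
    exact hinj f g fun a => DFunLike.congr_fun h a
  have hκ1 : κ 1 ≠ 0 := by
    intro h
    have h1 := hκ 1
    rw [h, zero_smul] at h1
    exact hN h1
  obtain ⟨a, ha⟩ : ∃ a, ∑ f : C, κ f * σ f a ≠ 0 := by
    by_contra hcon
    push Not at hcon
    have h1 := Fintype.linearIndependent_iff.1 hli κ (by
      funext a
      rw [Finset.sum_apply]
      exact hcon a) 1
    exact hκ1 h1
  set c₀ := ∑ f : C, κ f * σ f a with hc₀
  have hsum : c₀ • N = ∑ f : C, (f : Equiv.Perm (R K V)) (a • N) := by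
    rw [hc₀, Finset.sum_smul]
    refine Finset.sum_congr rfl fun f _ => ?_
    rw [hσ f, hκ f, smul_smul, mul_comm]
  have hfix : ∀ g : C, (g : Equiv.Perm (R K V)) (c₀ • N) = c₀ • N := by
    intro g
    let G : R K V →+ R K V := AddMonoidHom.mk' g (hC g.2).1
    have h1 : (g : Equiv.Perm (R K V)) (c₀ • N) = ∑ f : C, G ((f : Equiv.Perm (R K V)) (a • N)) := by
      rw [hsum, ← map_sum]
      rfl
    rw [h1, hsum]
    refine Fintype.sum_equiv (Equiv.mulLeft g) _ _ fun f => ?_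
    rfl
  obtain ⟨d, hd⟩ := IsCyclic.exists_generator (α := Kˣ)
  refine ⟨d * c₀, mul_ne_zero d.ne_zero ha, fun f hf h => ?_⟩
  have h1 : σ ⟨f, hf⟩ d = d := by
    rw [mul_smul] at h
    have h2 := hσ ⟨f, hf⟩ d (c₀ • N)
    rw [hfix ⟨f, hf⟩] at h2
    have h3 : (σ ⟨f, hf⟩ d) • (c₀ • N) = (d : K) • (c₀ • N) := by rw [← h2]; exact h
    exact smul_left_injective K (smul_ne_zero ha hN) h3
  refine hlin f hf fun a X => ?_
  have h2 : σ ⟨f, hf⟩ a = a := by
    by_cases ha0 : a = 0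
    · rw [ha0, map_zero]
    · obtain ⟨k, hk⟩ := hd (Units.mk0 a ha0)
      have h4 : a = (d : K) ^ k := by
        have := congrArg Units.val hk
        simpa using this.symm
      rw [h4, map_zpow₀, h1]
  have h3 := hσ ⟨f, hf⟩ a X
  rw [h2] at h3
  exact h3

theorem units_smul {x x' : (R K V)ˣ} [Nontrivial V] (h : cj K V x = cj K V x') : ∃ c : K, (x : R K V) = c • (x' : R K V) := by
  have h1 : cj K V (x'⁻¹ * x) = 1 := by rw [map_mul, map_inv, h, inv_mul_cancel]
  obtain ⟨c, hc⟩ := (cj_eq_one_iff _).1 h1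
  refine ⟨c, ?_⟩
  have h2 : (x : R K V) = (x' : R K V) * ((x'⁻¹ * x : (R K V)ˣ) : R K V) := by simp
  rw [h2, hc, mul_smul_comm, mul_one]

/-- **`C(A) ∩ PGL(V) = A`** -/
theorem mem_A_of_cent [Nontrivial V] [Module.Finite K V] {A : Subgroup (Equiv.Perm (R K V))} (hsp : Spn A)
    (hIN : A ≤ IN K V) (hc : ∀ f ∈ A, ∀ g ∈ A, f * g = g * f) (hcard : Nat.card A = finrank K (R K V))
    {y : (R K V)ˣ} (hy : ∀ a ∈ A, cj K V y * a = a * cj K V y) : cj K V y ∈ A := by
  classical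
  have hpos : 0 < finrank K (R K V) := finrank_pos
  have hfin : Finite A := Nat.finite_of_card_ne_zero (by omega)
  have : Fintype A := Fintype.ofFinite A
  choose x hx using fun a : A => hIN a.2
  have hspan : ⊤ ≤ Submodule.span K (Set.range fun a : A => (x a : R K V)) := by
    rw [← hsp, Submodule.span_le]
    rintro _ ⟨z, rfl, hz⟩
    obtain ⟨c, hcz⟩ := units_smul (x := z) (x' := x ⟨cj K V z, hz⟩) (hx ⟨cj K V z, hz⟩).symm
    rw [hcz]
    exact Submodule.smul_mem _ _ (Submodule.subset_span ⟨_, rfl⟩)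
  have hli : LinearIndependent K (fun a : A => (x a : R K V)) :=
    linearIndependent_of_top_le_span_of_card_eq_finrank hspan (by rw [← Nat.card_eq_fintype_card, hcard])
  obtain ⟨μ, hμ⟩ : ∃ μ : A → K, (y : R K V) = ∑ a, μ a • (x a : R K V) := by
    have h1 : (y : R K V) ∈ Submodule.span K (Set.range fun a : A => (x a : R K V)) := hspan trivial
    obtain ⟨μ, hμ⟩ := (Submodule.mem_span_range_iff_exists_fun K).1 h1
    exact ⟨μ, hμ.symm⟩
  obtain ⟨a₀, ha₀⟩ : ∃ a, μ a ≠ 0 := by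
    by_contra hcon
    push Not at hcon
    have h1 : (y : R K V) = 0 := by
      rw [hμ]
      exact Finset.sum_eq_zero fun a _ => by rw [hcon a, zero_smul]
    exact unit_ne_zero y h1
  have hz : Sc (((x a₀)⁻¹ * y : (R K V)ˣ) : R K V) := by
    by_contra hns
    obtain ⟨b, hb, hne⟩ := exists_not_comm hsp hns
    apply hne
    obtain ⟨ζ, hζ⟩ := exists_zeta (x := b) (y := y) (hy _ hb).symm
    choose ε hε using fun a : A => exists_zeta (x := b) (y := x a) (by rw [hx a]; exact hc _ hb _ a.2)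
    have h1 : ∑ a, (μ a * ε a - ζ * μ a) • (x a : R K V) = 0 := by
      have h2 : (b : R K V) * y = (∑ a, (μ a * ε a) • (x a : R K V)) * b := by
        rw [hμ, Finset.mul_sum, Finset.sum_mul]
        refine Finset.sum_congr rfl fun a _ => ?_
        rw [mul_smul_comm, hε a, smul_smul, smul_mul_assoc]
      have h3 : ζ • ((y : R K V) * b) = (∑ a, (ζ * μ a) • (x a : R K V)) * b := by
        rw [hμ, Finset.sum_mul, Finset.sum_mul, Finset.smul_sum]
        refine Finset.sum_congr rfl fun a _ => ?_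
        rw [smul_mul_assoc, smul_smul, smul_mul_assoc]
      rw [hζ, h3] at h2
      have h4 := congrArg (fun Z => Z * ((b⁻¹ : (R K V)ˣ) : R K V)) h2
      simp only [mul_assoc, Units.mul_inv, mul_one] at h4
      simp only [sub_smul, Finset.sum_sub_distrib]
      rw [← h4, sub_self]
    have h5 := Fintype.linearIndependent_iff.1 hli _ h1 a₀
    have h6 : ε a₀ = ζ := by
      have h7 : μ a₀ * (ε a₀ - ζ) = 0 := by rw [← h5]; ring
      rcases mul_eq_zero.1 h7 with h8 | h8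
      · exact absurd h8 ha₀
      · exact sub_eq_zero.1 h8
    have h9 := hε a₀
    rw [h6] at h9
    have hζ0 : ζ ≠ 0 := by
      rintro rfl
      rw [zero_smul] at hζ
      exact unit_ne_zero (b * y) hζ
    -- `b (x⁻¹ y) = (x⁻¹ y) b`
    have h10 : (x a₀ : R K V) * (((x a₀)⁻¹ * y : (R K V)ˣ) : R K V) = y := by simp
    have h11 : (x a₀ : R K V) * ((b : R K V) * (((x a₀)⁻¹ * y : (R K V)ˣ) : R K V)) =
        (x a₀ : R K V) * ((((x a₀)⁻¹ * y : (R K V)ˣ) : R K V) * b) := by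
      rw [← mul_assoc, ← mul_assoc, h10]
      have h12 : (x a₀ : R K V) * b = ζ⁻¹ • ((b : R K V) * x a₀) := by
        rw [h9, smul_smul, inv_mul_cancel₀ hζ0, one_smul]
      rw [h12, smul_mul_assoc, mul_assoc, h10, hζ, smul_smul, inv_mul_cancel₀ hζ0, one_smul]
    have h13 := congrArg (fun Z => (((x a₀)⁻¹ : (R K V)ˣ) : R K V) * Z) h11
    simp only [← mul_assoc, Units.inv_mul, one_mul] at h13
    exact h13.symm
  have h1 := (cj_eq_one_iff _).2 hz
  rw [map_mul, map_inv, inv_mul_eq_one, hx a₀] at h1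
  rw [← h1]
  exact a₀.2

end spei

end Cfsg.Agent.H706.FC
end

-- part: H706/FC/Cnt
section
/-!
# S5764: a vector which is not an eigenvector of a non-scalar lift, dimension 8 (helper706)
-/

set_option autoImplicit false

namespace Cfsg.Agent.H706.FC

open Module Cfsg.Agent.H198.FC Cfsg.Agent.H277.FC

universe u v

section cnt

variable {K : Type u} [Field K] {V : Type v} [AddCommGroup V] [Module K V]

/-- lifts with their structure constants -/
structure Lft (A : Subgroup (Equiv.Perm (R K V))) where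
  /-- the lifts -/
  x : A → (R K V)ˣ
  hx : ∀ a, cj K V (x a) = a
  /-- squares -/
  c : A → K
  hc : ∀ a, (x a : R K V) * x a = c a • (1 : R K V)
  /-- commutators -/
  z : A → A → K
  hz : ∀ a b, (x a : R K V) * x b = z a b • ((x b : R K V) * x a)

variable {A : Subgroup (Equiv.Perm (R K V))}

theorem exists_lft [Nontrivial V] (hIN : A ≤ IN K V) (hc : ∀ f ∈ A, ∀ g ∈ A, f * g = g * f)
    (hs : ∀ f ∈ A, f ^ 2 = 1) : Nonempty (Lft A) := by
  choose x hx using fun a : A => hIN a.2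
  choose c hc' using fun a : A => exists_sq (x := x a) (by rw [hx a]; exact hs _ a.2)
  choose z hz using fun a b : A => exists_zeta (x := x a) (y := x b) (by rw [hx a, hx b]; exact hc _ a.2 _ b.2)
  exact ⟨⟨x, hx, c, hc', z, hz⟩⟩

namespace Lft

variable (L : Lft A)

theorem c_ne [Nontrivial V] (a : A) : L.c a ≠ 0 := by
  intro h
  have h1 := L.hc a
  rw [h, zero_smul] at h1
  exact unit_ne_zero (L.x a * L.x a) h1

theorem exists_lam [Nontrivial V] (a b : A) : ∃ l : K, l ≠ 0 ∧ (L.x (a * b) : R K V) = l • ((L.x a : R K V) * L.x b) := by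
  obtain ⟨l, hl⟩ := units_smul (x := L.x (a * b)) (x' := L.x a * L.x b) (by
    rw [map_mul, L.hx, L.hx, L.hx]; rfl)
  refine ⟨l, ?_, hl⟩
  rintro rfl
  rw [zero_smul] at hl
  exact unit_ne_zero _ hl

theorem c_mul [Nontrivial V] (a b : A) : ∃ l : K, l ≠ 0 ∧ L.c (a * b) = l ^ 2 * L.z b a * (L.c a * L.c b) := by
  obtain ⟨l, hl0, hl⟩ := L.exists_lam a b
  refine ⟨l, hl0, ?_⟩
  have h1 := L.hc (a * b)
  have h2 : (L.x (a * b) : R K V) * L.x (a * b) = (l ^ 2 * L.z b a * (L.c a * L.c b)) • (1 : R K V) := by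
    rw [hl, smul_mul_smul_comm]
    have h3 : (L.x a : R K V) * L.x b * ((L.x a : R K V) * L.x b) = (L.z b a * (L.c a * L.c b)) • (1 : R K V) := by
      rw [mul_assoc, ← mul_assoc (L.x b : R K V), L.hz b a, smul_mul_assoc, mul_smul_comm, ← mul_assoc, ← mul_assoc,
        L.hc a, smul_mul_assoc, one_mul, smul_mul_assoc, L.hc b, smul_smul, smul_smul, mul_assoc]
    rw [h3, smul_smul]
    congr 1
    ring
  exact (smul_left_injective K (one_ne_zero (α := R K V)) (h1.symm.trans h2))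

theorem z_mul [Nontrivial V] (e a b : A) : L.z e (a * b) = L.z e a * L.z e b := by
  obtain ⟨l, hl0, hl⟩ := L.exists_lam a b
  have h1 := L.hz e (a * b)
  have h2 : (L.x e : R K V) * L.x (a * b) = (L.z e a * L.z e b) • ((L.x (a * b) : R K V) * L.x e) := by
    rw [hl, mul_smul_comm, smul_mul_assoc, ← mul_assoc, L.hz e a, smul_mul_assoc, mul_assoc, L.hz e b, mul_smul_comm,
      smul_smul, smul_smul, ← mul_assoc, smul_smul]
    congr 1
    ring
  exact smul_left_injective K (unit_ne_zero (L.x (a * b) * L.x e)) (h1.symm.trans h2)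

theorem not_sc [Nontrivial V] {a : A} (ha : a ≠ 1) : ¬ Sc (L.x a : R K V) := by
  intro h
  have h1 := (cj_eq_one_iff _).2 h
  rw [L.hx a] at h1
  exact ha (Subtype.ext h1)

theorem one_sc [Nontrivial V] : Sc (L.x 1 : R K V) := (cj_eq_one_iff _).1 (by rw [L.hx]; rfl)

theorem c_one [Nontrivial V] : ∃ l : K, l ≠ 0 ∧ L.c 1 = l ^ 2 := by
  obtain ⟨l, hl⟩ := L.one_sc
  have h1 := L.hc 1
  rw [hl, smul_mul_smul_comm, one_mul] at h1
  have h2 := smul_left_injective K (one_ne_zero (α := R K V)) h1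
  refine ⟨l, ?_, by rw [← h2, pow_two]⟩
  rintro rfl
  rw [zero_smul] at hl
  exact unit_ne_zero _ hl

theorem z_one [Nontrivial V] (a : A) : L.z 1 a = 1 := by
  have h1 := L.hz 1 a
  rw [L.one_sc.comm] at h1
  have h2 : (1 : K) • ((L.x a : R K V) * L.x 1) = L.z 1 a • ((L.x a : R K V) * L.x 1) := by rw [one_smul]; exact h1
  exact (smul_left_injective K (unit_ne_zero (L.x a * L.x 1)) h2).symm

theorem exists_z [Nontrivial V] (hsp : Spn A) (hc : ∀ f ∈ A, ∀ g ∈ A, f * g = g * f) (hs : ∀ f ∈ A, f ^ 2 = 1)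
    {a : A} (ha : a ≠ 1) : ∃ b, L.z a b = -1 := by
  obtain ⟨-, y, hy, hxy⟩ := exists_anti (x := L.x a) hsp hc hs (by rw [mem_Ah, L.hx]; exact a.2) (L.not_sc ha)
  refine ⟨⟨cj K V y, hy⟩, ?_⟩
  obtain ⟨m, hm⟩ := units_smul (x := L.x ⟨cj K V y, hy⟩) (x' := y) (L.hx _)
  have h1 := L.hz a ⟨cj K V y, hy⟩
  rw [hm, mul_smul_comm, hxy, smul_neg] at h1
  have h2 : (-1 : K) • ((L.x ⟨cj K V y, hy⟩ : R K V) * L.x a) =
      L.z a ⟨cj K V y, hy⟩ • ((L.x ⟨cj K V y, hy⟩ : R K V) * L.x a) := by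
    rw [neg_smul, one_smul]
    conv_rhs => rw [hm]
    rw [← h1, hm, smul_mul_assoc]
  exact (smul_left_injective K (unit_ne_zero (L.x ⟨cj K V y, hy⟩ * L.x a)) h2).symm

/-- **the sum of the signs** -/
theorem sum_sq [Nontrivial V] [Fintype K] [DecidableEq K] [Fintype A] (hsp : Spn A)
    (hc : ∀ f ∈ A, ∀ g ∈ A, f * g = g * f) (hs : ∀ f ∈ A, f ^ 2 = 1) (hq : quadraticChar K (-1) = -1) :
    (∑ a : A, quadraticChar K (L.c a)) ^ 2 = Fintype.card A := by
  classical
  set ε : A → ℤ := fun a => quadraticChar K (L.c a) with hε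
  set χ : A → A → ℤ := fun a b => quadraticChar K (L.z a b) with hχ
  have hεε : ∀ a, ε a * ε a = 1 := by
    intro a
    have := quadraticChar_sq_one (F := K) (L.c_ne a)
    rw [← pow_two]
    exact this
  have h1 : ∀ a b, ε (a * b) = χ b a * (ε a * ε b) := by
    intro a b
    obtain ⟨l, hl0, hl⟩ := L.c_mul a b
    have h2 : quadraticChar K (l ^ 2) = 1 := quadraticChar_sq_one' hl0
    simp only [hε, hχ]
    rw [hl, map_mul, map_mul, map_mul, h2, one_mul]
  have h2 : ∀ e, ∑ a, χ e a = if e = 1 then (Fintype.card A : ℤ) else 0 := by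
    intro e
    split_ifs with h
    · subst h
      have : ∀ a, χ 1 a = 1 := fun a => by simp only [hχ]; rw [L.z_one, map_one]
      simp [this]
    · obtain ⟨b, hb⟩ := L.exists_z hsp hc hs h
      have h3 : ∑ a, χ e a = ∑ a, χ e (b * a) := (Fintype.sum_equiv (Equiv.mulLeft b) _ _ fun a => rfl).symm
      have h4 : ∀ a, χ e (b * a) = - χ e a := by
        intro a
        simp only [hχ]
        rw [L.z_mul, map_mul, hb, hq, neg_one_mul]
      rw [Finset.sum_congr rfl fun a _ => h4 a, Finset.sum_neg_distrib] at h3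
      omega
  have h3 : ∀ a, ∑ b, ε b = ∑ e, ε (a * e) := fun a => (Fintype.sum_equiv (Equiv.mulLeft a) _ _ fun e => rfl).symm
  rw [pow_two, Finset.sum_mul]
  have h4 : ∀ a, ε a * ∑ b, ε b = ∑ e, χ e a * ε e := by
    intro a
    rw [h3 a, Finset.mul_sum]
    refine Finset.sum_congr rfl fun e _ => ?_
    rw [h1, ← mul_assoc, mul_comm (ε a), mul_assoc, ← mul_assoc (ε a), hεε, one_mul]
  rw [Finset.sum_congr rfl fun a _ => h4 a, Finset.sum_comm]
  have h5 : ∀ e, ∑ a, χ e a * ε e = if e = 1 then (Fintype.card A : ℤ) else 0 := by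
    intro e
    rw [← Finset.sum_mul, h2]
    split_ifs with h
    · subst h
      obtain ⟨l, hl0, hl⟩ := L.c_one
      have h6 : ε 1 = 1 := by
        simp only [hε]
        rw [hl]
        exact quadraticChar_sq_one' hl0
      rw [h6, mul_one]
    · rw [zero_mul]
  rw [Finset.sum_congr rfl fun e _ => h5 e]
  simp

/-- `q = 3`: at most `36` of the lifts have a square which is a square -/
theorem card_sq_le [Nontrivial V] [Fintype K] [DecidableEq K] [Fintype A] (hA : Fintype.card A = 64) (hsp : Spn A)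
    (hc : ∀ f ∈ A, ∀ g ∈ A, f * g = g * f) (hs : ∀ f ∈ A, f ^ 2 = 1) (hq : quadraticChar K (-1) = -1) :
    (Finset.univ.filter fun a : A => quadraticChar K (L.c a) = 1).card ≤ 36 := by
  classical
  have h1 := L.sum_sq hsp hc hs hq
  have h2 : ∑ a : A, quadraticChar K (L.c a) =
      2 * (Finset.univ.filter fun a : A => quadraticChar K (L.c a) = 1).card - 64 := by
    have h3 : ∀ a : A, quadraticChar K (L.c a) = 2 * (if quadraticChar K (L.c a) = 1 then 1 else 0) - 1 := by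
      intro a
      rcases quadraticChar_dichotomy (F := K) (L.c_ne a) with h | h
      · rw [h]; simp
      · rw [h]; simp
    rw [Finset.sum_congr rfl fun a _ => h3 a, Finset.sum_sub_distrib, ← Finset.mul_sum, Finset.sum_boole]
    simp [hA]
  rw [h2, hA] at h1
  by_contra hcon
  push Not at hcon
  have h4 : (37 : ℤ) ≤ (Finset.univ.filter fun a : A => quadraticChar K (L.c a) = 1).card := by exact_mod_cast hcon
  push_cast at h1
  nlinarith

end Lft

variable [Module.Finite K V]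

theorem card_ker [Fintype K] [Fintype V] (X : R K V) {d : ℕ} (hd : finrank K (LinearMap.ker X) ≤ d)
    [DecidablePred fun v : V => X v = 0] :
    (Finset.univ.filter fun v : V => X v = 0).card ≤ Fintype.card K ^ d := by
  have h1 : (Finset.univ.filter fun v : V => X v = 0).card = Nat.card (LinearMap.ker X) := by
    have h2 : Nat.card (LinearMap.ker X) = Nat.card {v : V // X v = 0} :=
      Nat.card_congr (Equiv.subtypeEquivRight fun v => LinearMap.mem_ker)
    rw [h2, Nat.card_eq_fintype_card, Fintype.card_subtype]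
  rw [h1, Module.natCard_eq_pow_finrank (K := K), Nat.card_eq_fintype_card]
  exact Nat.pow_le_pow_right Fintype.card_pos hd

/-- the eigenvectors of a non-scalar lift -/
theorem card_eigen [Nontrivial V] [Fintype K] [Fintype V] [DecidableEq V] (hn : finrank K V = 8) (hsp : Spn A)
    (hc : ∀ f ∈ A, ∀ g ∈ A, f * g = g * f) (hs : ∀ f ∈ A, f ^ 2 = 1) (L : Lft A) {a : A} (ha : a ≠ 1)
    [DecidablePred fun w : V => w ≠ 0 ∧ ∃ l : K, (L.x a : R K V) w = l • w] :
    (Finset.univ.filter fun w : V => w ≠ 0 ∧ ∃ l : K, (L.x a : R K V) w = l • w).card ≤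
      2 * (Fintype.card K ^ 4 - 1) := by
  classical
  rcases Finset.eq_empty_or_nonempty (Finset.univ.filter fun w : V => w ≠ 0 ∧ ∃ l : K, (L.x a : R K V) w = l • w)
    with h | ⟨w₀, hw₀⟩
  · rw [h, Finset.card_empty]; exact Nat.zero_le _
  obtain ⟨hw0, l₀, hl₀⟩ := (Finset.mem_filter.1 hw₀).2
  have hsqe : ∀ (w : V) (l : K), w ≠ 0 → (L.x a : R K V) w = l • w → l * l = L.c a := by
    intro w l hw hl
    have h1 := LinearMap.congr_fun (L.hc a) w
    rw [Module.End.mul_apply, hl, map_smul, hl, smul_smul, LinearMap.smul_apply, Module.End.one_apply] at h1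
    exact smul_left_injective K hw h1
  have hsub : (Finset.univ.filter fun w : V => w ≠ 0 ∧ ∃ l : K, (L.x a : R K V) w = l • w) ⊆
      ((Finset.univ.filter fun v : V => ((L.x a : R K V) - l₀ • (1 : R K V)) v = 0).erase 0) ∪
      ((Finset.univ.filter fun v : V => ((L.x a : R K V) - (-l₀) • (1 : R K V)) v = 0).erase 0) := by
    intro w hw
    obtain ⟨hw1, l, hl⟩ := (Finset.mem_filter.1 hw).2
    have h1 : l * l = l₀ * l₀ := by rw [hsqe w l hw1 hl, hsqe w₀ l₀ hw0 hl₀]
    rcases mul_self_eq_mul_self_iff.1 h1 with h2 | h2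
    · refine Finset.mem_union_left _ (Finset.mem_erase.2 ⟨hw1, Finset.mem_filter.2 ⟨Finset.mem_univ _, ?_⟩⟩)
      exact LinearMap.mem_ker.1 (mem_ker_sub.2 (by rw [hl, h2]))
    · refine Finset.mem_union_right _ (Finset.mem_erase.2 ⟨hw1, Finset.mem_filter.2 ⟨Finset.mem_univ _, ?_⟩⟩)
      exact LinearMap.mem_ker.1 (mem_ker_sub.2 (by rw [hl, h2]))
  have hcard : ∀ l : K, ((Finset.univ.filter fun v : V => ((L.x a : R K V) - l • (1 : R K V)) v = 0).erase 0).card ≤
      Fintype.card K ^ 4 - 1 := by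
    intro l
    have h0 : (0 : V) ∈ Finset.univ.filter fun v : V => ((L.x a : R K V) - l • (1 : R K V)) v = 0 :=
      Finset.mem_filter.2 ⟨Finset.mem_univ _, LinearMap.map_zero _⟩
    rw [Finset.card_erase_of_mem h0]
    refine Nat.sub_le_sub_right (card_ker _ ?_) 1
    have := finrank_eigen_le (x := L.x a) hsp hc hs (by rw [mem_Ah, L.hx]; exact a.2) (L.not_sc ha) l
    omega
  refine (Finset.card_le_card hsub).trans ((Finset.card_union_le _ _).trans ?_)
  have h1 := hcard l₀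
  have h2 := hcard (-l₀)
  omega

/-- **existence of `w`** -/
theorem exists_w [Finite K] (hn : finrank K V = 8) (hsp : Spn A) (hIN : A ≤ IN K V)
    (hc : ∀ f ∈ A, ∀ g ∈ A, f * g = g * f) (hs : ∀ f ∈ A, f ^ 2 = 1) (hA : Nat.card A = 64) :
    ∃ w : V, w ≠ 0 ∧ ∀ y ∈ Ah A, (∃ l : K, (y : R K V) w = l • w) → Sc (y : R K V) := by
  classical
  have : Nontrivial V := Module.nontrivial_of_finrank_pos (R := K) (by omega)
  have : Fintype K := Fintype.ofFinite K
  have : Finite V := Module.finite_of_finite K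
  have : Fintype V := Fintype.ofFinite V
  have : Finite A := Nat.finite_of_card_ne_zero (by omega)
  have : Fintype A := Fintype.ofFinite A
  have hA' : Fintype.card A = 64 := by rw [← Nat.card_eq_fintype_card, hA]
  obtain ⟨L⟩ := exists_lft hIN hc hs
  -- characteristic
  obtain ⟨a₁, ha₁⟩ : ∃ a : A, a ≠ 1 := by
    have : Nontrivial A := Fintype.one_lt_card_iff_nontrivial.1 (by omega)
    exact exists_ne 1
  have h2 : (2 : K) ≠ 0 :=
    (exists_anti (x := L.x a₁) hsp hc hs (by rw [mem_Ah, L.hx]; exact a₁.2) (L.not_sc ha₁)).1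
  have hchar : ringChar K ≠ 2 := by
    intro h
    have := ringChar.Nat.cast_ringChar (R := K)
    rw [h] at this
    exact h2 (by exact_mod_cast this)
  have hodd : Fintype.card K % 2 = 1 := FiniteField.odd_card_of_char_ne_two hchar
  set q := Fintype.card K with hq
  set E : A → Finset V := fun a => Finset.univ.filter fun w : V => w ≠ 0 ∧ ∃ l : K, (L.x a : R K V) w = l • w with hE
  set T : Finset A := Finset.univ.filter fun a : A => a ≠ 1 ∧ (E a).Nonempty with hT
  -- the number of classes with eigenvectors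
  have hTc : 2 * T.card < q ^ 4 + 1 := by
    have hT63 : T.card ≤ 63 := by
      have h3 : T ⊆ Finset.univ.erase 1 := fun a ha => Finset.mem_erase.2 ⟨(Finset.mem_filter.1 ha).2.1, Finset.mem_univ _⟩
      have h4 := Finset.card_le_card h3
      rw [Finset.card_erase_of_mem (Finset.mem_univ _), Finset.card_univ, hA'] at h4
      exact h4
    by_cases h5 : 5 ≤ q
    · have h6 : 5 ^ 4 ≤ q ^ 4 := Nat.pow_le_pow_left h5 4
      omega
    · have hq1 : 1 < q := Fintype.one_lt_card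
      have hq3 : q = 3 := by omega
      have hm : quadraticChar K (-1) = -1 := by
        rw [quadraticChar_neg_one hchar, ← hq, hq3]
        decide
      have h6 := L.card_sq_le hA' hsp hc hs hm
      have h7 : T ⊆ (Finset.univ.filter fun a : A => quadraticChar K (L.c a) = 1).erase 1 := by
        intro a ha
        obtain ⟨ha1, w, hw⟩ := (Finset.mem_filter.1 ha).2
        obtain ⟨hw0, l, hl⟩ := (Finset.mem_filter.1 hw).2
        refine Finset.mem_erase.2 ⟨ha1, Finset.mem_filter.2 ⟨Finset.mem_univ _, ?_⟩⟩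
        have h8 : L.c a = l ^ 2 := by
          have h1 := LinearMap.congr_fun (L.hc a) w
          rw [Module.End.mul_apply, hl, map_smul, hl, smul_smul, LinearMap.smul_apply, Module.End.one_apply] at h1
          rw [pow_two]
          exact (smul_left_injective K hw0 h1).symm
        rw [h8]
        refine quadraticChar_sq_one' ?_
        rintro rfl
        exact L.c_ne a (by rw [h8]; ring)
      have h8 := Finset.card_le_card h7
      rw [Finset.card_erase_of_mem (Finset.mem_filter.2 ⟨Finset.mem_univ _, by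
        obtain ⟨l, hl0, hl⟩ := L.c_one
        rw [hl]
        exact quadraticChar_sq_one' hl0⟩)] at h8
      rw [hq3]
      omega
  -- counting
  have hbad : (T.biUnion E).card < (Finset.univ.erase (0 : V)).card := by
    have h3 : (T.biUnion E).card ≤ T.card * (2 * (q ^ 4 - 1)) := by
      refine Finset.card_biUnion_le_card_mul _ _ _ fun a ha => ?_
      exact card_eigen hn hsp hc hs L (Finset.mem_filter.1 ha).2.1
    have h4 : (Finset.univ.erase (0 : V)).card = q ^ 8 - 1 := by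
      rw [Finset.card_erase_of_mem (Finset.mem_univ _), Finset.card_univ, Module.card_eq_pow_finrank (K := K), hn]
    rw [h4]
    refine lt_of_le_of_lt h3 ?_
    have h5 : 1 < q ^ 4 := Nat.one_lt_pow (by norm_num) Fintype.one_lt_card
    obtain ⟨k, hk⟩ : ∃ k, q ^ 4 = k + 1 := ⟨q ^ 4 - 1, by omega⟩
    have h6 : q ^ 8 = (q ^ 4) * (q ^ 4) := by ring
    rw [h6, hk] 
    rw [hk] at hTc h5
    have h7 : (k + 1) * (k + 1) - 1 = (k + 2) * k := by
      have : (k + 1) * (k + 1) = (k + 2) * k + 1 := by ring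
      omega
    rw [h7, Nat.add_sub_cancel]
    have h8 : 2 * T.card < k + 2 := by omega
    have h9 : T.card * (2 * k) = (2 * T.card) * k := by ring
    rw [h9]
    exact Nat.mul_lt_mul_of_pos_right h8 (by omega)
  obtain ⟨w, hw, hw'⟩ := Finset.exists_mem_notMem_of_card_lt_card hbad
  refine ⟨w, (Finset.mem_erase.1 hw).1, fun y hy hyw => ?_⟩
  by_contra hns
  apply hw'
  obtain ⟨m, hm⟩ := units_smul (x := L.x ⟨cj K V y, hy⟩) (x' := y) (L.hx _)
  obtain ⟨l, hl⟩ := hyw
  have h10 : w ∈ E ⟨cj K V y, hy⟩ :=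
    Finset.mem_filter.2 ⟨Finset.mem_univ _, (Finset.mem_erase.1 hw).1, m * l, by
      rw [hm, LinearMap.smul_apply, hl, smul_smul]⟩
  refine Finset.mem_biUnion.2 ⟨⟨cj K V y, hy⟩, Finset.mem_filter.2 ⟨Finset.mem_univ _, ?_, ⟨w, h10⟩⟩, h10⟩
  intro h
  exact hns ((cj_eq_one_iff y).1 (congrArg Subtype.val h))

end cnt

end Cfsg.Agent.H706.FC
end

-- part: H706/FC/Sp8
section
/-!
# S5764: extraspecial type normalizers, symplectic groups in dimension 8 (helper706)

`stmtBC6_sp8 : StmtBC6On false (fun n => n = 8)`.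
-/

set_option autoImplicit false

namespace Cfsg.Agent.H706.FC

open Module Cfsg.Agent.H198.FC Cfsg.Agent.H277.FC Cfsg.Agent.H786.FC

universe u v

section sp

variable {K : Type u} [Field K] {V : Type v} [AddCommGroup V] [Module K V] {b : Cl K V}

/-- the linear form `B(·, w)` -/
def bf (b : Cl K V) (w : V) : Dual K V where
  toFun v := b.B v w
  map_add' v v' := b.add_left v v' w
  map_smul' a v := by rw [b.smul_left]; rfl

theorem bf_apply (w v : V) : bf b w v = b.B v w := rfl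

/-- `v ↦ c B(v, w) w` -/
def Nw (b : Cl K V) (w : V) : R K V := (bf b w).smulRight w

theorem Nw_apply (w v : V) : Nw b w v = b.B v w • w := rfl

theorem skew (hb : b.IsSp) (v w : V) : b.B w v = - b.B v w := by
  have h1 := hb.2 (v + w)
  rw [b.add_left, b.add_right, b.add_right, hb.2, hb.2, zero_add, add_zero] at h1
  exact eq_neg_of_add_eq_zero_right h1

theorem adj_N (hb : b.IsSp) (w : V) (c : K) : b.Adj (c • Nw b w) (-(c • Nw b w)) := by
  intro v u
  rw [LinearMap.neg_apply, LinearMap.smul_apply, LinearMap.smul_apply, Nw_apply, Nw_apply, B_neg_right,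
    b.smul_left, b.smul_left, b.smul_right, b.smul_right, hb.1, hb.1, skew hb u w]
  ring

theorem nil_N (hb : b.IsSp) {w : V} (hw : w ≠ 0) {c : K} (hc : c ≠ 0) : Nil b (c • Nw b w) w := by
  refine ⟨⟨c • bf b w, ?_, fun v => ?_⟩, hw, hb.2 w, adj_N hb w c⟩
  · obtain ⟨v, hv⟩ := exists_right (b := b) hw
    intro h
    have h1 := LinearMap.congr_fun h v
    rw [LinearMap.smul_apply, bf_apply, smul_eq_mul, LinearMap.zero_apply] at h1
    rcases mul_eq_zero.1 h1 with h2 | h2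
    · exact hc h2
    · exact hv h2
  · rw [LinearMap.smul_apply, Nw_apply, smul_smul, LinearMap.smul_apply, bf_apply, smul_eq_mul]

theorem isom_N (hb : b.IsSp) {N : R K V} {w : V} {c : K} (hN : N = c • Nw b w) (h : N * N = 0) :
    b.Isom (uN N h : R K V) := by
  intro v u
  have h1 : ∀ v, (uN N h : R K V) v = v + (c * b.B v w) • w := by
    intro v
    rw [uN_val, hN, LinearMap.add_apply, Module.End.one_apply, LinearMap.smul_apply, Nw_apply, smul_smul]
  rw [h1, h1, b.add_left, b.add_right, b.add_right, b.smul_left, b.smul_left, b.smul_right, b.smul_right, hb.2,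
    hb.1, skew hb u w]
  ring

theorem det_N [Module.Finite K V] {N : R K V} {w : V} {c : K} (hN : N = c • Nw b w) (hw : b.B w w = 0) (h : N * N = 0) :
    LinearMap.det (uN N h : R K V) = 1 := by
  have h0 : (c • bf b w) w = 0 := by rw [LinearMap.smul_apply, bf_apply, hw, smul_zero]
  have h1 : (uN N h : R K V) = ((LinearEquiv.transvection h0 : V ≃ₗ[K] V) : V →ₗ[K] V) := by
    ext v
    rw [uN_val, hN, LinearMap.add_apply, Module.End.one_apply, LinearMap.smul_apply, Nw_apply, smul_smul]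
    rfl
  have h2 := LinearEquiv.transvection.det_eq_one h0
  have h3 := congrArg Units.val h2
  rw [LinearEquiv.coe_det] at h3
  rw [h1]
  exact h3

/-- **StmtBC6, symplectic, dimension 8** -/
theorem fiveB_sp8 [Finite K] [Module.Finite K V] (hb : b.IsSp) (hn : finrank K V = 8)
    {S A : Subgroup (Equiv.Perm (R K V))} (hS : S ≤ RB b) (hsol : Group.IsSolvable S) {r a : ℕ}
    (hA : C6Data S A r a) : FiveB b S := by
  have : Nontrivial V := Module.nontrivial_of_finrank_pos (R := K) (by omega)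
  obtain ⟨hr, ha1, hra, hAS, hIN, hcard, hpow, hcomm, hspan, hnorm, hmin⟩ := hA
  have hr2 : r = 2 := by
    have h1 : r ∣ 8 := by rw [← hn, hra]; exact dvd_pow_self r (by omega)
    have h2 : r ∣ 2 ^ 3 := by norm_num; exact h1
    exact (Nat.prime_dvd_prime_iff_eq hr Nat.prime_two).1 (hr.dvd_of_dvd_pow h2)
  subst hr2
  have ha3 : a = 3 := by
    have h1 : 2 ^ a = 2 ^ 3 := by rw [← hra, hn]; norm_num
    exact Nat.pow_right_injective (le_refl 2) h1
  subst ha3
  have hsp : Spn A := hspan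
  obtain ⟨w, hw0, hw⟩ := exists_w hn hsp hIN hcomm hpow (by rw [hcard]; norm_num)
  have hN1 : Nw b w ≠ 0 := by
    have := (nil_N hb hw0 (one_ne_zero (α := K))).ne_zero
    rwa [one_smul] at this
  -- the stabilizer of the line in `C_S(A)`
  let C : Subgroup (Equiv.Perm (R K V)) :=
    { carrier := {f | f ∈ S ∧ (∀ c ∈ A, f * c = c * f) ∧ ∃ κ : K, f (Nw b w) = κ • Nw b w}
      one_mem' := ⟨one_mem _, fun c _ => by rw [one_mul, mul_one], 1, by rw [one_smul]; rfl⟩
      mul_mem' := by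
        rintro f g ⟨hf, hfA, κ, hκ⟩ ⟨hg, hgA, κ', hκ'⟩
        refine ⟨mul_mem hf hg, fun c hc => ?_, ?_⟩
        · rw [mul_assoc, hgA c hc, ← mul_assoc, hfA c hc, mul_assoc]
        · obtain ⟨σ, hσ⟩ := RP_sigma (RB_le (hS hf))
          refine ⟨σ κ' * κ, ?_⟩
          rw [Equiv.Perm.mul_apply, hκ', hσ, hκ, smul_smul]
      inv_mem' := by
        rintro f ⟨hf, hfA, κ, hκ⟩
        refine ⟨inv_mem hf, fun c hc => ?_, ?_⟩
        · rw [inv_mul_eq_iff_eq_mul, ← mul_assoc, hfA c hc, mul_assoc, mul_inv_cancel, mul_one]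
        · obtain ⟨σ, hσ⟩ := RP_sigma (RB_le (hS (inv_mem hf)))
          have hκ0 : κ ≠ 0 := by
            rintro rfl
            rw [zero_smul] at hκ
            have h1 := RP_map_zero (RB_le (hS hf))
            exact hN1 (f.injective (hκ.trans h1.symm))
          have h1 : (f⁻¹ : Equiv.Perm (R K V)) (κ • Nw b w) = Nw b w := by
            rw [← hκ]; exact Equiv.symm_apply_apply _ _
          rw [hσ] at h1
          refine ⟨(σ κ)⁻¹, ?_⟩
          have h2 : σ κ ≠ 0 := (map_ne_zero σ).2 hκ0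
          calc (f⁻¹ : Equiv.Perm (R K V)) (Nw b w) = (σ κ)⁻¹ • (σ κ • (f⁻¹ : Equiv.Perm (R K V)) (Nw b w)) := by
                rw [smul_smul, inv_mul_cancel₀ h2, one_smul]
            _ = _ := by rw [h1] }
  have hCmem : ∀ f, f ∈ C ↔ f ∈ S ∧ (∀ c ∈ A, f * c = c * f) ∧ ∃ κ : K, f (Nw b w) = κ • Nw b w := fun f => Iff.rfl
  obtain ⟨c, hc0, hc⟩ := exists_scalar (C := C) (fun f hf => RB_le (hS ((hCmem f).1 hf).1)) hN1
    (fun f hf => ((hCmem f).1 hf).2.2) (by
      intro f hf hlin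
      obtain ⟨hfS, hfA, κ, hκ⟩ := (hCmem f).1 hf
      have hfP := RB_le (hS hfS)
      -- `f` is inner
      obtain ⟨h, ⟨hadd, σ, hσ⟩, hfh⟩ := stmtSN K V (by omega) f hfP
      have hσ1 : ∀ t : K, σ t = t := by
        intro t
        obtain ⟨v, hv⟩ := exists_ne (0 : V)
        have h1 := hfh (t • (1 : R K V)) v
        rw [hlin, RP_map_one hfP, LinearMap.smul_apply, Module.End.one_apply, LinearMap.smul_apply,
          Module.End.one_apply, hσ] at h1
        have h2 : h v ≠ 0 := by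
          intro h0
          have h3 : h 0 = 0 := by
            have := hadd 0 0
            rw [add_zero] at this
            simpa using this
          exact hv (h.injective (h0.trans h3.symm))
        exact (smul_left_injective K h2 h1).symm
      let e : V ≃ₗ[K] V :=
        { h with
          map_add' := hadd
          map_smul' := fun t v => by
            change h (t • v) = t • h v
            rw [hσ, hσ1] }
      let y : (R K V)ˣ := ⟨(e : V →ₗ[K] V), (e.symm : V →ₗ[K] V), by ext v; exact e.apply_symm_apply v,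
        by ext v; exact e.symm_apply_apply v⟩
      have hfy : f = cj K V y := by
        apply Equiv.ext
        intro X
        rw [cj_apply]
        have h1 : f X * (y : R K V) = (y : R K V) * X := by
          ext v
          exact hfh X v
        rw [← h1, mul_assoc, Units.mul_inv, mul_one]
      have hyA : y ∈ Ah A := by
        refine mem_A_of_cent hsp hIN hcomm ?_ (y := y) (by rw [← hfy]; exact hfA)
        rw [hcard, Module.finrank_linearMap, hn]
        norm_num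
      have hyw : ∃ l : K, (y : R K V) w = l • w := by
        obtain ⟨v, hv⟩ := exists_right (b := b) hw0
        have h1 : f (Nw b w) * (y : R K V) = (y : R K V) * Nw b w := by
          rw [hfy, cj_apply, mul_assoc, Units.inv_mul, mul_one]
        rw [hκ] at h1
        have h2 := LinearMap.congr_fun h1 v
        rw [Module.End.mul_apply, Module.End.mul_apply, LinearMap.smul_apply, Nw_apply, Nw_apply, map_smul] at h2
        refine ⟨(b.B v w)⁻¹ * (κ * b.B ((y : R K V) v) w), ?_⟩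
        rw [mul_smul, mul_smul, h2, smul_smul, inv_mul_cancel₀ hv, one_smul]
      rw [hfy]
      exact (cj_eq_one_iff y).2 (hw y hyA hyw))
  set N := c • Nw b w with hNdef
  have hNil : Nil b N w := nil_N hb hw0 hc0
  refine H563.FC.mtB hS ⟨hr, ha1, hra, hAS, hIN, hcard, hpow, hcomm, hspan, hnorm, hmin⟩ hsol (uN N hNil.sq)
    (det_N hNdef (hb.2 w) _) (isom_N hb hNdef _) ?_
  intro f hfS hfA hx
  have hfB := hS hfS
  have hg := cj_mem_of (RB_le hfB) hfS hx
  have hfN : f N = N := fixN hn hsp hcomm hpow hNil hw hfB fun a ha => hnorm _ hg a ha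
  refine hc f ((hCmem f).2 ⟨hfS, hfA, ?_⟩) hfN
  obtain ⟨σ, hσ⟩ := RP_sigma (RB_le hfB)
  have h1 : Nw b w = c⁻¹ • N := by rw [hNdef, smul_smul, inv_mul_cancel₀ hc0, one_smul]
  refine ⟨σ c⁻¹ * c, ?_⟩
  calc f (Nw b w) = f (c⁻¹ • N) := by rw [← h1]
    _ = σ c⁻¹ • N := by rw [hσ, hfN]
    _ = _ := by rw [hNdef, smul_smul]

/-- **5398** -/
theorem stmtBC6_sp8 : StmtBC6On.{u, v} false fun n => n = 8 := by
  intro K _ _ V _ _ _ b hk _ hn S hS hsol A r a hA
  exact fiveB_sp8 (hk.2 rfl) hn hS hsol hA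

end sp

end Cfsg.Agent.H706.FC
end

-- part: H319/FC/RTwo
section
/-!
# S5764, SP4G: the case of a normal 2-subgroup, final
-/

set_option autoImplicit false

namespace Cfsg.Agent.H319.FC

open Cfsg
open Cfsg.Agent.ClassicalGeometry.SympBasic Cfsg.Agent.ClassicalGeometry.SympAutSemi
open Cfsg.Agent.ClassicalGeometry.Sp4Graph Cfsg.Agent.ClassicalGeometry.Sp4GraphAut
open scoped Matrix

universe u

variable {F : Type u} [Field F]

theorem mem_map_conj {S : Subgroup (MulAut (Sp4 F))} {x : Sp4 F} {g : semiSim 2 F}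
    (hg : conjHom 2 F g ∈ S.map (MulAut.conj (MulAut.conj x)).toMonoidHom) :
    conjHom 2 F ((toSemi x)⁻¹ * g * toSemi x) ∈ S := by
  obtain ⟨γ, hγ, hγ'⟩ := hg
  have h1 : MulAut.conj x * γ * (MulAut.conj x)⁻¹ = conjHom 2 F g := hγ'
  rw [map_mul, map_mul, map_inv, conjHom_toSemi, ← h1]
  have h2 : (MulAut.conj x)⁻¹ * (MulAut.conj x * γ * (MulAut.conj x)⁻¹) * MulAut.conj x = γ := by group
  rwa [h2]

theorem fixP_map {S : Subgroup (MulAut (Sp4 F))} {v : V4 F} (h : FixP S v) (x : Sp4 F) :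
    FixP (S.map (MulAut.conj (MulAut.conj x)).toMonoidHom) (rho 2 F x v) := by
  intro g hg
  obtain ⟨a, ha⟩ := h _ (mem_map_conj hg)
  refine ⟨a, ?_⟩
  have h1 : (rho 2 F x)⁻¹ (g.1 (rho 2 F x v)) = a • v := ha
  have h2 := congrArg (rho 2 F x) h1
  rwa [perm_apply_inv_self, rho_smul] at h2

theorem fixL_map {S : Subgroup (MulAut (Sp4 F))} {v b : V4 F} (h : FixL S v b) (x : Sp4 F) :
    FixL (S.map (MulAut.conj (MulAut.conj x)).toMonoidHom) (rho 2 F x v) (rho 2 F x b) := by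
  intro g hg y hy
  obtain ⟨s, t, rfl⟩ := Submodule.mem_span_pair.1 hy
  have h1 := h _ (mem_map_conj hg) (s • v + t • b) (Submodule.mem_span_pair.2 ⟨s, t, rfl⟩)
  obtain ⟨s', t', h2⟩ := Submodule.mem_span_pair.1 h1
  have h3 : (rho 2 F x)⁻¹ (g.1 (rho 2 F x (s • v + t • b))) = s' • v + t' • b := h2.symm
  have h4 := congrArg (rho 2 F x) h3
  rw [perm_apply_inv_self, rho_add, rho_smul, rho_smul, rho_add, rho_smul, rho_smul] at h4
  rw [h4]
  exact Submodule.mem_span_pair.2 ⟨_, _, rfl⟩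

section

variable [CharP F 2] [Finite F]

/-- a fixed point on the fixed line -/
theorem exists_point_on_line {S : Subgroup (MulAut (Sp4 F))} {p : V4 F} (hp : p ≠ 0) (hP : FixP S p)
    (hL : FixL S (e1 F) (e2 F)) : ∃ w1 w2 : F, w1 • e1 F + w2 • e2 F ≠ 0 ∧ FixP S (w1 • e1 F + w2 • e2 F) := by
  have hn : ∀ y : F, -y = y := fun y => CharTwo.neg_eq y
  have hf : ∀ s t : F, sympForm 2 F p (s • e1 F + t • e2 F) = s * p (.inr 0) + t * p (.inr 1) := by
    intro s t
    rw [sympForm_add_right, sympForm_smul_right, sympForm_smul_right, e1, e2, sympForm_single_inl_right,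
      sympForm_single_inl_right]
  by_cases h0 : p (.inr 0) = 0 ∧ p (.inr 1) = 0
  · refine ⟨p (.inl 0), p (.inl 1), ?_, ?_⟩
    · have h1 := decomp4 p
      rw [h0.1, h0.2, zero_smul, zero_smul, add_zero, add_zero] at h1
      rwa [← h1]
    · have h1 := decomp4 p
      rw [h0.1, h0.2, zero_smul, zero_smul, add_zero, add_zero] at h1
      rwa [← h1]
  · refine ⟨p (.inr 1), p (.inr 0), ?_, ?_⟩
    · intro h
      have h1 := congrFun h (.inl 0)
      have h2 := congrFun h (.inl 1)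
      simp [e1, e2] at h1 h2
      exact h0 ⟨h2, h1⟩
    · intro g hg
      obtain ⟨a, ha⟩ := hP g hg
      have h1 := hL g hg (p (.inr 1) • e1 F + p (.inr 0) • e2 F) (Submodule.mem_span_pair.2 ⟨_, _, rfl⟩)
      obtain ⟨s, t, hst⟩ := Submodule.mem_span_pair.1 h1
      obtain ⟨φ, l, hl, hgs⟩ := g.2
      have ha0 : a ≠ 0 := by
        rintro rfl
        rw [zero_smul] at ha
        exact hp (g.1.injective (ha.trans (semi_zero hgs).symm))
      have h2 := hgs.2.2 p (p (.inr 1) • e1 F + p (.inr 0) • e2 F)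
      have h3 : sympForm 2 F p (p (.inr 1) • e1 F + p (.inr 0) • e2 F) = 0 := by
        rw [hf, mul_comm]
        exact CharTwo.add_self_eq_zero _
      rw [h3, map_zero, mul_zero, ha, sympForm_smul_left, ← hst, hf] at h2
      have h4 := (mul_eq_zero.1 h2).resolve_left ha0
      rw [← hst]
      by_cases h5 : p (.inr 1) = 0
      · have h6 : p (.inr 0) ≠ 0 := fun h => h0 ⟨h, h5⟩
        rw [h5, mul_zero, add_zero] at h4
        have h7 : s = 0 := (mul_eq_zero.1 h4).resolve_right h6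
        refine ⟨t * (p (.inr 0))⁻¹, ?_⟩
        rw [h7, h5, zero_smul, zero_add, zero_add, smul_smul, mul_assoc, inv_mul_cancel₀ h6, mul_one]
      · refine ⟨s * (p (.inr 1))⁻¹, ?_⟩
        have h7 : t = s * (p (.inr 1))⁻¹ * p (.inr 0) := by
          have h8 : t * p (.inr 1) = s * p (.inr 0) := by
            have := eq_neg_of_add_eq_zero_right h4
            rw [this, hn]
          field_simp
          rw [h8]
        rw [smul_add, smul_smul, smul_smul, ← h7, mul_assoc, inv_mul_cancel₀ h5, mul_one]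

/-- a fixed point and a fixed line -/
theorem kill3_of_both {S : Subgroup (MulAut (Sp4 F))} {p v b : V4 F} (hp : p ≠ 0) (hP : FixP S p)
    (hv : v ≠ 0) (hb : ∀ a : F, b ≠ a • v) (hvb : sympForm 2 F v b = 0) (hL : FixL S v b) : Kill3 S := by
  obtain ⟨h, hh1, hh2⟩ := exists_ti hv hb hvb
  apply Kill3.conj h⁻¹
  set S1 := S.map (MulAut.conj (MulAut.conj h⁻¹)).toMonoidHom with hS1
  have hP1 : FixP S1 (rho 2 F h⁻¹ p) := fixP_map hP h⁻¹
  have hL1 : FixL S1 (e1 F) (e2 F) := by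
    have := fixL_map hL h⁻¹
    rwa [← hh1, ← hh2, rho_inv_rho, rho_inv_rho] at this
  have hp1 : rho 2 F h⁻¹ p ≠ 0 := by
    intro h0
    apply hp
    have h2 := congrArg (rho 2 F h) h0
    rw [rho_rho_inv] at h2
    rw [h2]
    exact semi_zero (isSemi_rho h)
  obtain ⟨w1, w2, hw, hwP⟩ := exists_point_on_line hp1 hP1 hL1
  -- a complement
  have hex : ∃ b2 : V4 F, (∀ a : F, b2 ≠ a • (w1 • e1 F + w2 • e2 F)) ∧
      sympForm 2 F (w1 • e1 F + w2 • e2 F) b2 = 0 ∧
      Submodule.span F {w1 • e1 F + w2 • e2 F, b2} = Submodule.span F {e1 F, e2 F} := by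
    by_cases h1 : w1 = 0
    · have h2 : w2 ≠ 0 := by
        rintro rfl
        exact hw (by rw [h1, zero_smul, zero_smul, add_zero])
      refine ⟨e1 F, ?_, ?_, ?_⟩
      · intro a h
        rw [h1, zero_smul, zero_add] at h
        have := congrFun h (.inl 0)
        simp [e1, e2] at this
      · rw [h1, zero_smul, zero_add, sympForm_smul_left, sympForm_swap, form_e1_e2, neg_zero, mul_zero]
      · rw [h1, zero_smul, zero_add]
        apply le_antisymm
        · rw [Submodule.span_le]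
          rintro x (rfl | rfl)
          · exact Submodule.mem_span_pair.2 ⟨0, w2, by rw [zero_smul, zero_add]⟩
          · exact Submodule.mem_span_pair.2 ⟨1, 0, by rw [zero_smul, add_zero, one_smul]⟩
        · rw [Submodule.span_le]
          rintro x (rfl | rfl)
          · exact Submodule.mem_span_pair.2 ⟨0, 1, by rw [zero_smul, zero_add, one_smul]⟩
          · exact Submodule.mem_span_pair.2 ⟨w2⁻¹, 0, by
              rw [zero_smul, add_zero, smul_smul, inv_mul_cancel₀ h2, one_smul]⟩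
    · refine ⟨e2 F, ?_, ?_, ?_⟩
      · intro a h
        have h3 := congrFun h (.inl 0)
        have h4 := congrFun h (.inl 1)
        simp [e1, e2] at h3 h4
        rcases h3 with h3 | h3
        · rw [h3, zero_mul] at h4
          exact one_ne_zero h4
        · exact h1 h3
      · rw [sympForm_add_left, sympForm_smul_left, sympForm_smul_left, form_e1_e2, sympForm_self, mul_zero, mul_zero,
          add_zero]
      · apply le_antisymm
        · rw [Submodule.span_le]
          rintro x (rfl | rfl)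
          · exact Submodule.mem_span_pair.2 ⟨w1, w2, rfl⟩
          · exact Submodule.mem_span_pair.2 ⟨0, 1, by rw [zero_smul, zero_add, one_smul]⟩
        · rw [Submodule.span_le]
          rintro x (rfl | rfl)
          · refine Submodule.mem_span_pair.2 ⟨w1⁻¹, -(w1⁻¹ * w2), ?_⟩
            rw [smul_add, smul_smul, smul_smul, inv_mul_cancel₀ h1, one_smul, neg_smul]
            abel
          · exact Submodule.mem_span_pair.2 ⟨0, 1, by rw [zero_smul, zero_add, one_smul]⟩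
  obtain ⟨b2, hb2, hb2', hb2s⟩ := hex
  obtain ⟨h', hh1', hh2'⟩ := exists_ti hw hb2 hb2'
  apply Kill3.conj h'⁻¹
  have hP2 := fixP_map hwP h'⁻¹
  have hL2 : FixL S1 (w1 • e1 F + w2 • e2 F) b2 := by
    intro g hg x hx
    rw [hb2s] at hx ⊢
    exact hL1 g hg x hx
  have hL3 := fixL_map hL2 h'⁻¹
  rw [← hh1', rho_inv_rho] at hP2
  rw [← hh1', ← hh2', rho_inv_rho, rho_inv_rho] at hL3
  exact kill3_flag hP2 hL3

/-- the common fixed vectors -/
def fixS (A : Subgroup (Sp4 F)) : Submodule F (V4 F) where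
  carrier := {v | ∀ a ∈ A, rho 2 F a v = v}
  add_mem' := by
    intro u v hu hv a ha
    rw [rho_add, hu a ha, hv a ha]
  zero_mem' := by
    intro a _
    exact semi_zero (isSemi_rho a)
  smul_mem' := by
    intro c v hv a ha
    rw [rho_smul, hv a ha]

theorem mem_fixS {A : Subgroup (Sp4 F)} {v : V4 F} : v ∈ fixS A ↔ ∀ a ∈ A, rho 2 F a v = v := Iff.rfl

/-- a totally isotropic invariant vector -/
theorem exists_rad {A : Subgroup (Sp4 F)} (hA : A ≠ ⊥) (hcomm : ∀ a ∈ A, ∀ b ∈ A, a * b = b * a)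
    (h2 : ∀ a ∈ A, a ^ 2 = 1) : ∃ u : V4 F, u ≠ 0 ∧ u ∈ fixS A ∧ ∀ w ∈ fixS A, sympForm 2 F u w = 0 := by
  classical
  have hn : ∀ y : F, -y = y := fun y => CharTwo.neg_eq y
  have hnv : ∀ y : V4 F, -y = y := fun y => by ext i; exact hn _
  -- a vector orthogonal to all fixed vectors
  have hC : fixS A < ⊤ := by
    rw [lt_top_iff_ne_top]
    intro h
    apply hA
    rw [eq_bot_iff]
    intro a ha
    rw [Subgroup.mem_bot]
    apply rho_injective
    ext1 v
    have hv : v ∈ fixS A := by rw [h]; trivial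
    rw [map_one]
    exact hv a ha
  obtain ⟨L, hL, hLC⟩ := Submodule.exists_le_ker_of_lt_top _ hC
  obtain ⟨w, hw⟩ : ∃ w : V4 F, ∀ x, sympForm 2 F w x = L x := by
    refine ⟨L (f1 F) • e1 F + L (f2 F) • e2 F + L (e1 F) • f1 F + L (e2 F) • f2 F, fun x => ?_⟩
    have h3 : L x = x (.inl 0) * L (e1 F) + x (.inl 1) * L (e2 F) + x (.inr 0) * L (f1 F) + x (.inr 1) * L (f2 F) := by
      conv_lhs => rw [decomp4 x]
      simp only [map_add, map_smul, smul_eq_mul]
    rw [h3, sympForm_eq]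
    simp [e1, e2, f1, f2]
    ring
  have hw0 : w ≠ 0 := by
    rintro rfl
    apply hL
    refine LinearMap.ext fun x => ?_
    rw [← hw, sympForm_zero_left, LinearMap.zero_apply]
  have hwC : ∀ c ∈ fixS A, sympForm 2 F w c = 0 := fun c hc => by rw [hw]; exact hLC hc
  -- Finset induction
  have key : ∀ T : Finset (Sp4 F), (∀ a ∈ T, a ∈ A) →
      ∃ u : V4 F, u ≠ 0 ∧ (∀ c ∈ fixS A, sympForm 2 F u c = 0) ∧ ∀ a ∈ T, rho 2 F a u = u := by
    intro T
    induction T using Finset.induction_on with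
    | empty => exact fun _ => ⟨w, hw0, hwC, fun a ha => absurd ha (Finset.notMem_empty a)⟩
    | insert b T _ ih =>
      intro hT
      obtain ⟨u, hu0, huC, huT⟩ := ih fun a ha => hT a (Finset.mem_insert_of_mem ha)
      have hb : b ∈ A := hT b (Finset.mem_insert_self b T)
      by_cases hz : u + rho 2 F b u = 0
      · refine ⟨u, hu0, huC, fun a ha => ?_⟩
        rcases Finset.mem_insert.1 ha with rfl | ha
        · rw [eq_neg_of_add_eq_zero_right hz, hnv]
        · exact huT a ha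
      · refine ⟨u + rho 2 F b u, hz, fun c hc => ?_, fun a ha => ?_⟩
        · have h3 : sympForm 2 F (rho 2 F b u) c = 0 := by
            have h4 : rho 2 F b c = c := hc b hb
            rw [← h4, sympForm_rho]
            exact huC c hc
          rw [sympForm_add_left, huC c hc, h3, add_zero]
        · rcases Finset.mem_insert.1 ha with rfl | ha
          · have h5 : rho 2 F a (rho 2 F a u) = u := by
              rw [← Equiv.Perm.mul_apply, ← map_mul, ← sq, h2 a hb, map_one, Equiv.Perm.one_apply]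
            rw [rho_add, h5, add_comm]
          · have h5 : rho 2 F a (rho 2 F b u) = rho 2 F b (rho 2 F a u) := by
              rw [← Equiv.Perm.mul_apply, ← map_mul, hcomm a (hT a (Finset.mem_insert_of_mem ha)) b hb, map_mul,
                Equiv.Perm.mul_apply]
            rw [rho_add, h5, huT a ha]
  have : Finite (Sp4 F) := inferInstance
  have : Fintype (Sp4 F) := Fintype.ofFinite _
  obtain ⟨u, hu0, huC, huT⟩ := key (Finset.univ.filter fun a => a ∈ A) fun a ha => (Finset.mem_filter.1 ha).2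
  exact ⟨u, hu0, fun a ha => huT a (Finset.mem_filter.2 ⟨Finset.mem_univ _, ha⟩), huC⟩

/-- **The case of a normal 2-subgroup.** -/
theorem kill3_of_two (hq : 4 ≤ Nat.card F) {S : Subgroup (MulAut (Sp4 F))} {δ : MulAut (Sp4 F)} (hδ : δ ∈ S)
    (hδP : δ ∉ (conjHom 2 F).range) {A : Subgroup (Sp4 F)} (hA : A ≠ ⊥)
    (hcomm : ∀ a ∈ A, ∀ b ∈ A, a * b = b * a) (h2 : ∀ a ∈ A, a ^ 2 = 1) (hinv : ∀ α ∈ S, ∀ a ∈ A, α a ∈ A) :
    Kill3 S := by
  obtain ⟨v, hv0, hvC, hvR⟩ := exists_rad hA hcomm h2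
  -- invariance of the radical
  have hfix : ∀ g : semiSim 2 F, conjHom 2 F g ∈ S → ∀ c ∈ fixS A, g.1 c ∈ fixS A := by
    intro g hg c hc a ha
    have h3 : (conjHom 2 F g)⁻¹ a ∈ A := hinv _ (inv_mem hg) a ha
    have h4 : conjHom 2 F g ((conjHom 2 F g)⁻¹ a) = a := (conjHom 2 F g).apply_symm_apply a
    have h5 := rho_conj_apply h4 c
    rw [← h5, hc _ h3]
  have hrad : ∀ g : semiSim 2 F, conjHom 2 F g ∈ S → ∀ u : V4 F, u ∈ fixS A → (∀ w ∈ fixS A, sympForm 2 F u w = 0) →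
      g.1 u ∈ fixS A ∧ ∀ w ∈ fixS A, sympForm 2 F (g.1 u) w = 0 := by
    intro g hg u hu hu'
    refine ⟨hfix g hg u hu, fun w hw => ?_⟩
    have h3 : (g⁻¹).1 w ∈ fixS A := hfix g⁻¹ (by rw [map_inv]; exact inv_mem hg) w hw
    obtain ⟨φ, l, hl, hgs⟩ := g.2
    have h4 : g.1 ((g⁻¹).1 w) = w := perm_apply_inv_self g.1 w
    rw [← h4, hgs.2.2, hu' _ h3, map_zero, mul_zero]
  by_cases hdim : ∀ x : V4 F, x ∈ fixS A → (∀ w ∈ fixS A, sympForm 2 F x w = 0) → ∃ a : F, x = a • v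
  · -- a point
    have hP : FixP S v := fun g hg => hdim _ (hrad g hg v hvC hvR).1 (hrad g hg v hvC hvR).2
    obtain ⟨v', b', hv', hb', hvb', hL⟩ := line_of_point hq hδ hδP hv0 hP
    exact kill3_of_both hv0 hP hv' hb' hvb' hL
  · -- a line
    push Not at hdim
    obtain ⟨b, hbC, hbR, hb⟩ := hdim
    have hvb : sympForm 2 F v b = 0 := hvR b hbC
    obtain ⟨h, hh1, hh2⟩ := exists_ti hv0 hb hvb
    have hspan : ∀ x : V4 F, x ∈ fixS A → (∀ w ∈ fixS A, sympForm 2 F x w = 0) → x ∈ Submodule.span F {v, b} := by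
      intro x _ hx'
      have h3 : sympForm 2 F (rho 2 F h⁻¹ x) (e1 F) = 0 := by
        rw [← sympForm_rho h, rho_rho_inv, hh1]; exact hx' v hvC
      have h4 : sympForm 2 F (rho 2 F h⁻¹ x) (e2 F) = 0 := by
        rw [← sympForm_rho h, rho_rho_inv, hh2]; exact hx' b hbC
      rw [e1, sympForm_single_inl_right] at h3
      rw [e2, sympForm_single_inl_right] at h4
      have h5 := decomp4 (rho 2 F h⁻¹ x)
      rw [h3, h4, zero_smul, zero_smul, add_zero, add_zero] at h5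
      have h6 := congrArg (rho 2 F h) h5
      rw [rho_rho_inv, rho_add, rho_smul, rho_smul, hh1, hh2] at h6
      rw [h6]
      exact Submodule.mem_span_pair.2 ⟨_, _, rfl⟩
    have hL : FixL S v b := by
      intro g hg x hx
      obtain ⟨s, t, rfl⟩ := Submodule.mem_span_pair.1 hx
      have h3 : s • v + t • b ∈ fixS A := add_mem (Submodule.smul_mem _ _ hvC) (Submodule.smul_mem _ _ hbC)
      have h4 : ∀ w ∈ fixS A, sympForm 2 F (s • v + t • b) w = 0 := by
        intro w hw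
        rw [sympForm_add_left, sympForm_smul_left, sympForm_smul_left, hvR w hw, hbR w hw, mul_zero, mul_zero, add_zero]
      have h5 := hrad g hg _ h3 h4
      exact hspan _ h5.1 h5.2
    obtain ⟨v', hv', hP⟩ := point_of_line hq hδ hδP hv0 hb hvb hL
    exact kill3_of_both hv' hP hv0 hb hvb hL

end

end Cfsg.Agent.H319.FC
end

-- part: H319/FC/Fin
section
/-!
# S5764, SP4G: assembly
-/

set_option autoImplicit false

namespace Cfsg.Agent.H319.FC

open Cfsg
open Cfsg.Agent.ClassicalGeometry.SympBasic Cfsg.Agent.ClassicalGeometry.SympAutSemi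
open Cfsg.Agent.ClassicalGeometry.Sp4Graph Cfsg.Agent.ClassicalGeometry.Sp4GraphAut

universe u

variable {F : Type u} [Field F] [CharP F 2] [Finite F]

/-- the statement for subgroups of `Aut(Sp_4(F))` -/
theorem kill3 (hq : 4 ≤ Nat.card F) {f : ℕ} (hf : Nat.card F = 2 ^ f) (hodd : Odd f) {S : Subgroup (MulAut (Sp4 F))}
    (hS : Group.IsSolvable S) {δ : MulAut (Sp4 F)} (hδ : δ ∈ S) (hδP : δ ∉ (conjHom 2 F).range) : Kill3 S := by
  by_cases h0 : ∀ x : Sp4 F, MulAut.conj x ∈ S → x = 1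
  · exact kill3_of_trivial h0
  · push Not at h0
    obtain ⟨r, A, hr, hA, -, hcomm, hpow, hinv⟩ := exists_elab hS center_sp h0
    by_cases hr2 : r = 2
    · subst hr2
      exact kill3_of_two hq hδ hδP hA hcomm hpow hinv
    · exact Cfsg.Agent.H88.FC.kill3_odd hq (fun x hx => Cfsg.Agent.H88.FC.cube_of_odd hf hodd x hx)
        (fun h => hδP (h hδ)) (hr.odd_of_ne_two hr2) A hA hcomm hpow hinv

/-- transfer from `Sp_4(F)` to `PSp_4(F)` -/
theorem transfer {S : Subgroup (MulAut (PSp 2 F))} (h : Five4 (S.comap (congE F).toMonoidHom)) :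
    ∃ x : Fin 4 → PSp 2 F, ∀ α ∈ S, (∀ i, MulAut.conj (x i) * α * (MulAut.conj (x i))⁻¹ ∈ S) → α = 1 := by
  obtain ⟨x, hx⟩ := h
  refine ⟨fun i => mkE F (x i), fun α hα hi => ?_⟩
  obtain ⟨β, rfl⟩ := (congE F).surjective α
  have h1 := hx β hα fun i => by
    rw [Subgroup.mem_comap]
    have h2 := hi i
    rw [← congE_conj, ← map_mul, ← map_inv, ← map_mul] at h2
    exact h2
  rw [h1, map_one]

/-- transfer from `PSp_4(F)` to `Sp_4(F)` -/
theorem transfer' {S : Subgroup (MulAut (PSp 2 F))}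
    (h : ∃ x : Fin 4 → PSp 2 F, ∀ α ∈ S, (∀ i, MulAut.conj (x i) * α * (MulAut.conj (x i))⁻¹ ∈ S) → α = 1) :
    Five4 (S.comap (congE F).toMonoidHom) := by
  obtain ⟨x, hx⟩ := h
  refine ⟨fun i => (mkE F).symm (x i), fun α hα hi => ?_⟩
  apply (congE F).injective
  rw [map_one]
  refine hx _ hα fun i => ?_
  have h2 : congE F (MulAut.conj ((mkE F).symm (x i)) * α * (MulAut.conj ((mkE F).symm (x i)))⁻¹) ∈ S := hi i
  rw [map_mul, map_mul, map_inv, congE_conj, MulEquiv.apply_symm_apply] at h2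
  exact h2

/-- **SP4G.** -/
theorem sp4g (hq : 4 ≤ Nat.card F)
    (hB : ∀ S : Subgroup (MulAut (PSp 2 F)), Group.IsSolvable S → S ≤ (Psi 2 F).range →
      ∃ x : Fin 4 → PSp 2 F, ∀ α ∈ S, (∀ i, MulAut.conj (x i) * α * (MulAut.conj (x i))⁻¹ ∈ S) → α = 1) :
    Cfsg.Agent.H198.FC.FiveAut (PSp 2 F) := by
  intro S hS
  have hsimple := simple_sp hq
  have hns := not_solvable_sp hq
  have hSs : Group.IsSolvable (S.comap (congE F).toMonoidHom) := by
    let f : S.comap (congE F).toMonoidHom →* S :=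
      { toFun := fun x => ⟨congE F x.1, x.2⟩
        map_one' := by ext1; exact map_one _
        map_mul' := fun x y => by ext1; exact map_mul _ x.1 y.1 }
    have hf : Function.Injective f := by
      intro x y hxy
      exact Subtype.ext ((congE F).injective (congrArg Subtype.val hxy))
    exact Group.isSolvable_of_isSolvable_injective hf
  obtain ⟨f, -, hf⟩ : ∃ (n : ℕ), 0 < n ∧ Nat.card F = 2 ^ n := by
    have : Fintype F := Fintype.ofFinite F
    have : Fact (Nat.Prime 2) := ⟨Nat.prime_two⟩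
    obtain ⟨n, -, hn⟩ := FiniteField.card F 2
    exact ⟨n, n.2, by rw [Nat.card_eq_fintype_card, hn]⟩
  by_cases hev : Even f
  · -- `f` even
    apply transfer
    have h1 : Five4 ((S ⊓ (Psi 2 F).range).comap (congE F).toMonoidHom) := by
      refine transfer' (hB _ ?_ inf_le_right)
      exact Group.isSolvable_of_isSolvable_injective (f := Subgroup.inclusion (inf_le_left : S ⊓ (Psi 2 F).range ≤ S))
        (Subgroup.inclusion_injective _)
    have h2 : (S ⊓ (Psi 2 F).range).comap (congE F).toMonoidHom =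
        S.comap (congE F).toMonoidHom ⊓ (conjHom 2 F).range := by
      rw [Subgroup.comap_inf, ← range_eq_comap]
    rw [h2] at h1
    exact four_of_four (conjHom 2 F).range (index_P hq)
      (fun α hα => Cfsg.Agent.H545.FC.no_graph_inv f hf hev α hα) h1
  · -- `f` odd
    have hodd : Odd f := Nat.not_even_iff_odd.1 hev
    by_cases hle : S ≤ (Psi 2 F).range
    · exact hB S hS hle
    · apply transfer
      obtain ⟨δ, hδ, hδP⟩ := SetLike.not_le_iff_exists.1 hle
      obtain ⟨δ', rfl⟩ := (congE F).surjective δ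
      have hδ'P : δ' ∉ (conjHom 2 F).range := fun h => hδP ((congE_mem_range δ').2 h)
      obtain ⟨x, hx⟩ := kill3 hq hf hodd hSs (δ := δ') hδ hδ'P
      exact four_of_three hns center_sp _ (index_P hq) hSs x hx

end Cfsg.Agent.H319.FC
end

-- part: H214/FC/AutSp
section
/-!
# S5764 [B-AUTSP]: `ThmB → StmtSp4G → StmtAutSp` (helper214, after helper412's `AutU`)
-/

set_option autoImplicit false

namespace Cfsg.Agent.H214.FC

open Subgroup Cfsg
open Cfsg.Agent.H903.SylSemi (Semi SemiSp scal scal_apply Ind)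
open Cfsg.Agent.ClassicalGeometry.SympAutSemi Cfsg.Agent.ClassicalGeometry.SympBasic
open Cfsg.Agent.H412.FC (IsSim isSim_hm isSim_of_isom exists_conj_isom Fam SolG Concl five_of_geo Ph_mem_RB
  semi_of_isSim)
open Cfsg.Agent.H198.FC (Cl RB cj hm hm_apply FiveB ThmB StmtAutSp FiveAut StmtSp4G)
open Cfsg.Agent.H200.FC (Ph Ph_apply Ph_apply' eq_Ph Ph_mem Ph_hm Ph_ker hm_mem lin_mem ofU toU ofU_apply ofU_coe
  toU_ofU toU_coe Ph_lin)

/-- the standard symplectic form as a `Cl` -/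
def clSp (F : Type) [Field F] (m : ℕ) : Cl F (Fin m ⊕ Fin m → F) where
  τ := RingEquiv.refl F
  B := sympForm m F
  add_left := sympForm_add_left
  add_right := sympForm_add_right
  smul_left := sympForm_smul_left
  smul_right a v w := sympForm_smul_right a v w
  nondeg _ h := eq_zero_of_forall_sympForm_right h
  invol _ := rfl
  typ := Or.inr ⟨fun _ => rfl, fun v => sympForm_self v⟩

variable {F : Type} [Field F] {m : ℕ}

theorem semiSp_iff' (y : Equiv.Perm (Fin m ⊕ Fin m → F)) :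
    SemiSp F m y ↔ ∃ σ μ, IsSim (clSp F m) y σ μ := by
  constructor
  · rintro ⟨θ, τ, h0, ⟨h1, h2⟩, h3⟩
    exact ⟨θ, τ, h0, h1, h2, h3⟩
  · rintro ⟨θ, τ, h0, h1, h2, h3⟩
    exact ⟨θ, τ, h0, ⟨h1, h2⟩, h3⟩

variable (F m) in
/-- linear isometries of determinant 1 -/
def XSp (g : Equiv.Perm (Fin m ⊕ Fin m → F)) : Prop :=
  ∃ x : (Fin m ⊕ Fin m → F) ≃ₗ[F] (Fin m ⊕ Fin m → F),
    LinearMap.det (x : (Fin m ⊕ Fin m → F) →ₗ[F] (Fin m ⊕ Fin m → F)) = 1 ∧
    (∀ v w, (clSp F m).B (x v) (x w) = (clSp F m).B v w) ∧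
      (x.toEquiv : Equiv.Perm (Fin m ⊕ Fin m → F)) = g

theorem famSp : Fam F (SemiSp F m) (XSp F m) where
  one := (semiSp_iff' 1).2 ⟨_, _, IsSim.one _⟩
  mul y y' h h' := by
    obtain ⟨σ, μ, h1⟩ := (semiSp_iff' y).1 h
    obtain ⟨σ', μ', h1'⟩ := (semiSp_iff' y').1 h'
    exact (semiSp_iff' _).2 ⟨_, _, h1.mul h1'⟩
  scal a := (semiSp_iff' _).2 ⟨_, _, isSim_hm (clSp F m) a⟩
  semi := by
    rintro y ⟨θ, τ, h0, h1, h3⟩
    exact ⟨θ, h1⟩
  XY := by
    rintro _ ⟨x, -, hx, rfl⟩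
    exact (semiSp_iff' _).2 ⟨_, _, isSim_of_isom x hx⟩
  Xconj := by
    rintro y _ hy ⟨x, hd, hx, rfl⟩
    obtain ⟨σ, μ, h1⟩ := (semiSp_iff' y).1 hy
    obtain ⟨z, z1, z2, z3⟩ := exists_conj_isom h1 x hd hx
    exact ⟨z, z1, z2, z3⟩

theorem XSp_sp {g : Equiv.Perm (Fin m ⊕ Fin m → F)} (h : XSp F m g) : ∃ s, rho m F s = g := by
  obtain ⟨x, -, hx, rfl⟩ := h
  exact exists_rho_eq _ (fun u v => map_add x u v) (fun a v => map_smul x a v) hx

theorem big_clSp [Fintype F] (hm : 2 ≤ m) (h3 : m = 2 → 3 ≤ Fintype.card F) : (clSp F m).Big := by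
  have hf : Module.finrank F (Fin m ⊕ Fin m → F) = m + m := by
    rw [Module.finrank_pi]
    simp
  refine Or.inr ⟨⟨fun _ => rfl, fun v => sympForm_self v⟩, ?_, fun h4 => ?_⟩
  · rw [hf]
    omega
  · rw [hf] at h4
    rw [Nat.card_eq_fintype_card]
    exact h3 (by omega)

theorem geoSp [Fintype F] (hB : ThmB.{0, 0}) (hm : 2 ≤ m) (h32 : m = 2 → 3 ≤ Fintype.card F)
    (G : Subgroup (Equiv.Perm (Fin m ⊕ Fin m → F))) (hG : SolG F (SemiSp F m) G) : Concl F (XSp F m) G := by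
  classical
  have hnt : Nontrivial (Fin m ⊕ Fin m → F) := by
    have : Nonempty (Fin m ⊕ Fin m) := ⟨Sum.inl ⟨0, by omega⟩⟩
    infer_instance
  have hle : G ≤ H198.FC.Semi F (Fin m ⊕ Fin m → F) := by
    intro y hy
    obtain ⟨σ, μ, h⟩ := (semiSp_iff' y).1 (hG.mem y hy)
    exact semi_of_isSim h
  let SR : Subgroup (Equiv.Perm (H198.FC.R F (Fin m ⊕ Fin m → F))) :=
    (G.comap (H198.FC.Semi F (Fin m ⊕ Fin m → F)).subtype).map (Ph F (Fin m ⊕ Fin m → F))
  have h1 : SR ≤ RB (clSp F m) := by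
    rintro _ ⟨g, hg, rfl⟩
    obtain ⟨σ, μ, h⟩ := (semiSp_iff' _).1 (hG.mem _ hg)
    exact Ph_mem_RB h g.2
  have h2 : Group.IsSolvable SR := by
    have h1 : Group.IsSolvable (G.comap (H198.FC.Semi F (Fin m ⊕ Fin m → F)).subtype) := by
      have := hG.sol
      apply Group.isSolvable_of_isSolvable_injective
        (f := (H198.FC.Semi F (Fin m ⊕ Fin m → F)).subtype.subgroupComap G)
      intro a b hab
      apply Subtype.ext
      apply Subtype.ext
      have h2 : ((H198.FC.Semi F (Fin m ⊕ Fin m → F)).subtype.subgroupComap G a).1 =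
        ((H198.FC.Semi F (Fin m ⊕ Fin m → F)).subtype.subgroupComap G b).1 := by rw [hab]
      exact h2
    exact Group.isSolvable_of_surjective
      ((Ph F (Fin m ⊕ Fin m → F)).subgroupMap_surjective
        (G.comap (H198.FC.Semi F (Fin m ⊕ Fin m → F)).subtype))
  obtain ⟨x, hd, hx, hS⟩ := hB F (Fin m ⊕ Fin m → F) (clSp F m) (big_clSp hm h32) SR h1 h2
  refine ⟨fun i => ((ofU (x i)).symm.toEquiv : Equiv.Perm (Fin m ⊕ Fin m → F)), fun i => ?_,
    fun y hy hi => ?_⟩
  · refine ⟨(ofU (x i)).symm, ?_, fun v w => ?_, rfl⟩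
    · have h3 : LinearMap.det ((ofU (x i) : (Fin m ⊕ Fin m → F) ≃ₗ[F] (Fin m ⊕ Fin m → F)) :
          (Fin m ⊕ Fin m → F) →ₗ[F] (Fin m ⊕ Fin m → F)) = 1 := by
        rw [ofU_coe]; exact hd i
      have h4 := LinearEquiv.det_symm_mul_det (ofU (x i))
      rwa [h3, mul_one] at h4
    · have h5 := hx i ((ofU (x i)).symm v) ((ofU (x i)).symm w)
      have e1 : (x i : H198.FC.R F (Fin m ⊕ Fin m → F)) ((ofU (x i)).symm v) = v :=
        (ofU (x i)).apply_symm_apply v
      have e2 : (x i : H198.FC.R F (Fin m ⊕ Fin m → F)) ((ofU (x i)).symm w) = w :=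
        (ofU (x i)).apply_symm_apply w
      rw [e1, e2] at h5
      exact h5.symm
  · have hy' := hle hy
    have h6 : Ph F (Fin m ⊕ Fin m → F) ⟨y, hy'⟩ = 1 := by
      apply hS
      · exact ⟨⟨y, hy'⟩, hy, rfl⟩
      · intro i
        rw [← Ph_lin, ← map_inv, ← map_mul, ← map_mul]
        refine ⟨_, ?_, rfl⟩
        exact hi i
    obtain ⟨a, ha⟩ := Ph_ker ⟨y, hy'⟩ h6
    refine ⟨a, ?_⟩
    have ha' : y = H198.FC.hm F (Fin m ⊕ Fin m → F) a := ha
    rw [ha']
    ext v
    rfl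

/-- the solvable groups of automorphisms induced by semisimilitudes -/
theorem fiveAut_range [Fintype F] (hB : ThmB.{0, 0}) (hm : 2 ≤ m) (h32 : m = 2 → 3 ≤ Fintype.card F)
    (S : Subgroup (MulAut (Cfsg.PSp m F))) (hS : Group.IsSolvable S) (hSP : S ≤ (Psi m F).range) :
    ∃ x : Fin 4 → Cfsg.PSp m F, ∀ α ∈ S,
      (∀ i, MulAut.conj (x i) * α * (MulAut.conj (x i))⁻¹ ∈ S) → α = 1 := by
  have hfin : Finite (Cfsg.PSp m F) := by
    unfold Cfsg.PSp
    infer_instance
  have hπ : Function.Surjective (QuotientGroup.mk' (Subgroup.center (Matrix.symplecticGroup (Fin m) F))) :=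
    QuotientGroup.mk'_surjective _
  have key : H786.FC.Five (H786.FC.InnG (Cfsg.PSp m F)) S := by
    refine five_of_geo (T := Cfsg.PSp m F)
      (π := QuotientGroup.mk' (Subgroup.center (Matrix.symplecticGroup (Fin m) F))) hπ
      (ρ := rho m F) rho_injective famSp ?_ ?_ (fun g => XSp_sp) (geoSp hB hm h32) hS ?_
    · intro s
      exact ⟨(isSemi_rho s).1, (isSemi_rho s).2.1⟩
    · intro y hy hind
      have hy' := (H513.MeetPSp.semiSp_iff y).1 hy
      have h1 : Psi m F ⟨y, hy'⟩ = 1 :=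
        Ind.unique hπ rho_injective (H513.MeetPSp.ind_Psi ⟨y, hy'⟩) hind
      obtain ⟨a, ha⟩ := Cfsg.Agent.ClassicalGeometry.SympGamma.exists_scal_of_Psi_eq_one (by omega) _ h1
      refine ⟨a, ?_⟩
      ext1 v
      exact DFunLike.congr_fun ha v
    · intro β hβ
      obtain ⟨g, rfl⟩ := hSP hβ
      exact ⟨g, (H513.MeetPSp.semiSp_iff _).2 g.2, H513.MeetPSp.ind_Psi g⟩
  obtain ⟨x, hx, hx'⟩ := key
  choose t ht using fun i => hx i
  refine ⟨fun i => (t i)⁻¹, fun s hs hi => hx' s hs fun i => ?_⟩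
  have := hi i
  rw [map_inv, inv_inv, ht i] at this
  exact this

/-- all automorphisms of `PSp(2m, F)` are induced by semisimilitudes -/
theorem fiveAut_of_surj [Fintype F] (hB : ThmB.{0, 0}) (hm : 2 ≤ m) (h32 : m = 2 → 3 ≤ Fintype.card F)
    (hsurj : Function.Surjective (Psi m F)) : FiveAut (Cfsg.PSp m F) :=
  fun S hS => fiveAut_range hB hm h32 S hS fun β _ => hsurj β

/-- the hypothesis supplied to the graph case `PSp₄(2^f)` -/
def Range4 (F : Type) [Field F] : Prop :=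
  ∀ S : Subgroup (MulAut (Cfsg.PSp 2 F)), Group.IsSolvable S → S ≤ (Psi 2 F).range →
    ∃ x : Fin 4 → Cfsg.PSp 2 F, ∀ α ∈ S,
      (∀ i, MulAut.conj (x i) * α * (MulAut.conj (x i))⁻¹ ∈ S) → α = 1

/-- the graph case, from `ThmB` and the reduction for a single field (helper319's form) -/
theorem stmtSp4G_of (hB : ThmB.{0, 0})
    (hG : ∀ (F : Type) [Field F] [Finite F] [CharP F 2], 4 ≤ Nat.card F → Range4 F →
      FiveAut (Cfsg.PSp 2 F)) : StmtSp4G := by
  intro F _ _ hF h4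
  refine hG F (by rwa [Nat.card_eq_fintype_card]) ?_
  exact fun S hS hSP => fiveAut_range hB le_rfl (fun _ => by omega) S hS hSP

/-- **[B-AUTSP]** -/
theorem stmtAutSp (hB : ThmB.{0, 0}) (hG : StmtSp4G) : StmtAutSp := by
  intro F _ _ m hm h32
  by_cases hcase : 3 ≤ m ∨ (2 : F) ≠ 0
  · refine fiveAut_of_surj hB hm h32 fun β => ?_
    exact Cfsg.Agent.ClassicalGeometry.SympAutExists.exists_semi hm β
      (Cfsg.Agent.ClassicalGeometry.SympAutOddA.recog hm hcase β)
  · push Not at hcase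
    obtain ⟨hm3, h20⟩ := hcase
    obtain rfl : m = 2 := by omega
    have hchar : CharP F 2 := CharTwo.of_one_ne_zero_of_two_eq_zero one_ne_zero h20
    refine hG F hchar ?_
    have h3 := h32 rfl
    obtain ⟨n, -, hn⟩ := FiniteField.card F 2
    rw [hn] at h3 ⊢
    have hn0 : (n : ℕ) ≠ 1 := by
      intro h
      rw [h] at h3
      omega
    have hn1 := n.pos
    calc 4 = 2 ^ 2 := by norm_num
      _ ≤ 2 ^ (n : ℕ) := Nat.pow_le_pow_right (by norm_num) (by omega)

end Cfsg.Agent.H214.FC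
end

-- part: H319/FC/Stmt
section
/-!
# S5764: `ThmB → StmtSp4G`
-/

set_option autoImplicit false

namespace Cfsg.Agent.H319.FC

/-- **SP4G.** -/
theorem stmtSp4G (hB : Cfsg.Agent.H198.FC.ThmB.{0, 0}) : Cfsg.Agent.H198.FC.StmtSp4G :=
  Cfsg.Agent.H214.FC.stmtSp4G_of hB fun F _ _ _ hq h => sp4g hq h

end Cfsg.Agent.H319.FC
end
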