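import Cfsg.Agent.H195.FC.Ring
import Cfsg.Agent.H198.FC.DefsB
import Cfsg.Agent.ClassicalGeometry.HermOrthonormal
set_option linter.all false

/-!
# S5764: normal form of a tensor decomposition with a unitary form (helper195, for helper920)
-/

set_option autoImplicit false
set_option linter.unusedSectionVars false

namespace Cfsg.Agent.H195.FC

open Matrix Cfsg.Agent.H198.FC
open scoped Kronecker

section herm

variable {K : Type*} [Field K] {I : Type*} [Fintype I] [DecidableEq I]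

/-- the sesquilinear form of a matrix -/
def sesq (τ : K ≃+* K) (P : Matrix I I K) : (I → K) →ₛₗ[(τ : K →+* K)] (I → K) →ₗ[K] K :=
  LinearMap.mk₂'ₛₗ (τ : K →+* K) (RingHom.id K) (fun v w => w ⬝ᵥ (P *ᵥ (fun i => τ (v i))))
    (fun m₁ m₂ n => by
      have : (fun i => τ ((m₁ + m₂) i)) = (fun i => τ (m₁ i)) + (fun i => τ (m₂ i)) := by
        funext i; simp
      rw [this, mulVec_add, dotProduct_add])
    (fun c m n => by
      have : (fun i => τ ((c • m) i)) = τ c • (fun i => τ (m i)) := by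
        funext i; simp
      rw [this, mulVec_smul, dotProduct_smul]
      rfl)
    (fun m n₁ n₂ => add_dotProduct _ _ _)
    (fun c m n => smul_dotProduct _ _ _)

theorem sesq_apply (τ : K ≃+* K) (P : Matrix I I K) (v w : I → K) :
    sesq τ P v w = w ⬝ᵥ (P *ᵥ (fun i => τ (v i))) := rfl

theorem map_dot (τ : K ≃+* K) (v w : I → K) : τ (v ⬝ᵥ w) = (fun i => τ (v i)) ⬝ᵥ (fun i => τ (w i)) := by
  simp [dotProduct, map_sum, map_mul]

theorem map_mulVec' (τ : K ≃+* K) (P : Matrix I I K) (v : I → K) :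
    (fun i => τ ((P *ᵥ v) i)) = P.map τ *ᵥ (fun i => τ (v i)) := by
  funext i
  simp [mulVec, dotProduct, map_sum, map_mul]

/-- hermitian matrices over finite fields are equivalent to `1` -/
theorem herm_one [Finite K] (τ : K ≃+* K) (hτ : ∀ a, τ (τ a) = a) (hne : ∃ a, τ a ≠ a) (P : Matrix I I K)
    (hP : (P.map τ)ᵀ = P) (hdet : P.det ≠ 0) : ∃ A : Matrix I I K, Aᵀ * P * A.map τ = 1 := by
  have hσ : (τ : K →+* K) ≠ RingHom.id K := by
    intro h
    obtain ⟨a, ha⟩ := hne
    exact ha (congrArg (fun f : K →+* K => f a) h)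
  have hS : (sesq τ P).IsSymm := by
    constructor
    intro v w
    change τ (sesq τ P v w) = sesq τ P w v
    rw [sesq_apply, sesq_apply, map_dot, map_mulVec']
    have e1 : (fun i => τ (τ (v i))) = v := by funext i; exact hτ _
    rw [e1, dotProduct_mulVec, ← mulVec_transpose, hP, dotProduct_comm]
  have hB : (sesq τ P).SeparatingLeft := by
    intro v hv
    have h1 : P *ᵥ (fun i => τ (v i)) = 0 := by
      funext i
      have := hv (Pi.single i 1)
      rw [sesq_apply, single_one_dotProduct] at this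
      exact this
    have h2 := Matrix.eq_zero_of_mulVec_eq_zero hdet h1
    funext i
    have := congrFun h2 i
    exact τ.map_eq_zero_iff.1 this
  obtain ⟨b, hb⟩ := ClassicalGeometry.HermOrthonormal.exists_orthonormal_basis hσ hτ (sesq τ P) hS hB
  have hc : Fintype.card (Fin (Module.finrank K (I → K))) = Fintype.card I := by
    rw [Fintype.card_fin, Module.finrank_fintype_fun_eq_card]
  let e : Fin (Module.finrank K (I → K)) ≃ I := Fintype.equivOfCardEq hc
  refine ⟨Matrix.of fun i j => b (e.symm j) i, ?_⟩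
  ext i j
  have h1 := hb (e.symm j) (e.symm i)
  rw [sesq_apply] at h1
  rw [Matrix.mul_assoc, Matrix.mul_apply, Matrix.one_apply]
  have h2 : ∀ k, (P * (Matrix.of fun i j => b (e.symm j) i).map τ) k j = (P *ᵥ (fun i => τ (b (e.symm j) i))) k := by
    intro k
    rfl
  simp only [h2]
  rw [show (∑ x, (Matrix.of fun i j => b (e.symm j) i)ᵀ i x * (P *ᵥ fun i => τ (b (e.symm j) i)) x) =
    b (e.symm i) ⬝ᵥ (P *ᵥ (fun i => τ (b (e.symm j) i))) from rfl, h1]
  simp only [EmbeddingLike.apply_eq_iff_eq, eq_comm]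

/-- conjugation by an invertible matrix -/
def conjW (W W' : Matrix I I K) (h : W * W' = 1) (h' : W' * W = 1) : Matrix I I K ≃ₐ[K] Matrix I I K where
  toFun X := W * X * W'
  invFun X := W' * X * W
  left_inv X := by
    change W' * (W * X * W') * W = X
    have : W' * (W * X * W') * W = (W' * W) * X * (W' * W) := by noncomm_ring
    rw [this, h', one_mul, mul_one]
  right_inv X := by
    change W * (W' * X * W) * W' = X
    have : W * (W' * X * W) * W' = (W * W') * X * (W * W') := by noncomm_ring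
    rw [this, h, one_mul, mul_one]
  map_mul' X Y := by
    have : W * X * W' * (W * Y * W') = W * X * (W' * W) * Y * W' := by noncomm_ring
    rw [this, h', mul_one, mul_assoc W X Y]
  map_add' X Y := by rw [mul_add, add_mul]
  commutes' a := by
    rw [← Algebra.commutes, mul_assoc, h, mul_one]

theorem conjW_apply {W W' : Matrix I I K} (h : W * W' = 1) (h' : W' * W = 1) (X : Matrix I I K) :
    conjW W W' h h' X = W * X * W' := rfl

end herm

section nf

variable {K : Type*} [Field K] [Finite K] {V : Type*} [AddCommGroup V] [Module K V] [Module.Finite K V]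

/-- conjugate transpose -/
def ct {I : Type*} (τ : K ≃+* K) (X : Matrix I I K) : Matrix I I K := (X.map τ)ᵀ

theorem map_mul_ {I : Type*} [Fintype I] (τ : K ≃+* K) (X Y : Matrix I I K) : (X * Y).map τ = X.map τ * Y.map τ := by
  ext i j
  simp [Matrix.mul_apply, map_sum, map_mul]

theorem map_kron {I J : Type*} [Fintype I] (τ : K ≃+* K) (X : Matrix I I K) (Y : Matrix J J K) :
    (X ⊗ₖ Y).map τ = X.map τ ⊗ₖ Y.map τ := by
  ext ⟨i, j⟩ ⟨k, l⟩
  simp

theorem map_one_ {I : Type*} [DecidableEq I] (τ : K ≃+* K) : (1 : Matrix I I K).map τ = 1 := by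
  ext i j
  simp [Matrix.one_apply, apply_ite]

theorem kron_transpose {I J : Type*} (X : Matrix I I K) (Y : Matrix J J K) : (X ⊗ₖ Y)ᵀ = Xᵀ ⊗ₖ Yᵀ := by
  ext ⟨i, j⟩ ⟨k, l⟩
  simp

/-- the Gram matrix of a basis -/
def gram {I : Type*} [DecidableEq I] (b : Cl K V) (T : (I → K) ≃ₗ[K] V) : Matrix I I K :=
  Matrix.of fun p q => b.B (T (Pi.single p 1)) (T (Pi.single q 1))

theorem B_sum_left {ι : Type*} (b : Cl K V) (s : Finset ι) (f : ι → V) (w : V) :
    b.B (∑ i ∈ s, f i) w = ∑ i ∈ s, b.B (f i) w := by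
  classical
  induction s using Finset.induction_on with
  | empty =>
    rw [Finset.sum_empty, Finset.sum_empty]
    have := b.smul_left 0 0 w
    rwa [zero_smul, zero_mul] at this
  | insert a s ha ih => rw [Finset.sum_insert ha, Finset.sum_insert ha, b.add_left, ih]

theorem B_sum_right {ι : Type*} (b : Cl K V) (s : Finset ι) (f : ι → V) (w : V) :
    b.B w (∑ i ∈ s, f i) = ∑ i ∈ s, b.B w (f i) := by
  classical
  induction s using Finset.induction_on with
  | empty =>
    rw [Finset.sum_empty, Finset.sum_empty]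
    have := b.smul_right 0 w 0
    rwa [zero_smul, map_zero, zero_mul] at this
  | insert a s ha ih => rw [Finset.sum_insert ha, Finset.sum_insert ha, b.add_right, ih]

theorem gram_form {I : Type*} [Fintype I] [DecidableEq I] (b : Cl K V) (T : (I → K) ≃ₗ[K] V) (v w : I → K) :
    b.B (T v) (T w) = v ⬝ᵥ (gram b T *ᵥ (fun i => b.τ (w i))) := by
  have hv : v = ∑ p, v p • (Pi.single p 1 : I → K) := by
    funext i
    simp [Finset.sum_apply, Pi.single_apply]
  have hw : w = ∑ p, w p • (Pi.single p 1 : I → K) := by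
    funext i
    simp [Finset.sum_apply, Pi.single_apply]
  conv_lhs => rw [hv, hw]
  rw [map_sum, map_sum, B_sum_left]
  simp only [dotProduct, mulVec, B_sum_right, map_smul, b.smul_left, b.smul_right, gram, Matrix.of_apply, Finset.mul_sum]
  refine Finset.sum_congr rfl fun p _ => Finset.sum_congr rfl fun q _ => ?_
  ring

/-- the adjoint in matrix form -/
theorem adj_iff {I : Type*} [Fintype I] [DecidableEq I] (b : Cl K V) (T : (I → K) ≃ₗ[K] V)
    (Φ : Matrix I I K ≃ₐ[K] R K V) (hT : ∀ X v, Φ X (T v) = T (X *ᵥ v)) (X Y : Matrix I I K) :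
    b.Adj (Φ X) (Φ Y) ↔ Xᵀ * gram b T = gram b T * Y.map b.τ := by
  constructor
  · intro h
    ext p q
    have h1 := h (T (Pi.single p 1)) (T (Pi.single q 1))
    rw [hT, hT, gram_form, gram_form, map_mulVec'] at h1
    have e1 : (fun i => b.τ ((Pi.single q 1 : I → K) i)) = Pi.single q 1 := by
      funext i
      by_cases hi : i = q
      · subst hi; simp
      · simp [hi]
    rw [e1, mulVec_mulVec, single_one_dotProduct, mulVec_single_one, mulVec_single_one] at h1
    rw [mulVec_single_one] at h1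
    exact h1
  · intro h v w
    obtain ⟨v, rfl⟩ := T.surjective v
    obtain ⟨w, rfl⟩ := T.surjective w
    rw [hT, hT, gram_form, gram_form, map_mulVec', mulVec_mulVec, ← h, ← mulVec_mulVec, dotProduct_mulVec v Xᵀ,
      vecMul_transpose]

/-- every isomorphism of `M_I(K)` with `End V` comes from a basis -/
theorem exists_T {I : Type*} [Fintype I] [DecidableEq I] (Φ : Matrix I I K ≃ₐ[K] R K V) :
    ∃ T : (I → K) ≃ₗ[K] V, ∀ X v, Φ X (T v) = T (X *ᵥ v) := by
  obtain ⟨T, hT⟩ := (Matrix.toLinAlgEquiv'.symm.trans Φ : Module.End K (I → K) ≃ₐ[K] Module.End K V).eq_linearEquivConjAlgEquiv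
  refine ⟨T, fun X v => ?_⟩
  have h1 := congrArg (fun f : Module.End K (I → K) ≃ₐ[K] Module.End K V => f (Matrix.toLinAlgEquiv' X) (T v)) hT
  simp only [AlgEquiv.trans_apply, AlgEquiv.symm_apply_apply, LinearEquiv.conjAlgEquiv_apply] at h1
  rw [h1]
  simp

theorem gram_herm {I : Type*} [DecidableEq I] {b : Cl K V} (hU : b.IsU) (T : (I → K) ≃ₗ[K] V) :
    ct b.τ (gram b T) = gram b T := by
  ext p q
  simp only [ct, gram, Matrix.transpose_apply, Matrix.map_apply, Matrix.of_apply]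
  rw [hU.2, b.invol]

theorem gram_det {I : Type*} [Fintype I] [DecidableEq I] (b : Cl K V) (T : (I → K) ≃ₗ[K] V) : (gram b T).det ≠ 0 := by
  intro h
  obtain ⟨v, hv, hv0⟩ := Matrix.exists_vecMul_eq_zero_iff.2 h
  apply hv
  apply T.injective
  rw [map_zero]
  apply b.nondeg
  intro w
  obtain ⟨w, rfl⟩ := T.surjective w
  rw [gram_form, dotProduct_mulVec, hv0, zero_dotProduct]

/-- the Gram matrix is a pure tensor -/
theorem gram_pure {I J : Type*} [Fintype I] [DecidableEq I] [Fintype J] [DecidableEq J] [Nonempty I] [Nonempty J]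
    {G : Matrix (I × J) (I × J) K} (hG : G ≠ 0) {θ : Matrix I I K → Matrix I I K}
    (h : ∀ N : Matrix I I K, (N ⊗ₖ (1 : Matrix J J K)) * G = G * ((θ N) ⊗ₖ (1 : Matrix J J K))) :
    ∃ (P : Matrix I I K) (Q : Matrix J J K), G = P ⊗ₖ Q := by
  -- the blocks
  let Bl : J → J → Matrix I I K := fun j l => Matrix.of fun i k => G (i, j) (k, l)
  have hbl : ∀ (N : Matrix I I K) j l, N * Bl j l = Bl j l * θ N := by
    intro N j l
    ext i k
    have h1 := congrFun (congrFun (h N) (i, j)) (k, l)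
    rw [Matrix.mul_apply, Matrix.mul_apply, Fintype.sum_prod_type, Fintype.sum_prod_type] at h1
    simp only [Matrix.kroneckerMap_apply, Matrix.one_apply] at h1
    rw [Matrix.mul_apply, Matrix.mul_apply]
    have e1 : ∀ x : I, (∑ y : J, (N i x * if j = y then 1 else 0) * G (x, y) (k, l)) = N i x * Bl j l x k := by
      intro x
      rw [Finset.sum_eq_single j]
      · simp [Bl]
      · intro y _ hy; simp [Ne.symm hy]
      · intro hy; exact absurd (Finset.mem_univ _) hy
    have e2 : ∀ x : I, (∑ y : J, G (i, j) (x, y) * (θ N x k * if y = l then 1 else 0)) = Bl j l i x * θ N x k := by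
      intro x
      rw [Finset.sum_eq_single l]
      · simp [Bl]
      · intro y _ hy; simp [hy]
      · intro hy; exact absurd (Finset.mem_univ _) hy
    simp only [e1, e2] at h1
    exact h1
  obtain ⟨j₀, l₀, hP⟩ : ∃ j l, Bl j l ≠ 0 := by
    by_contra! hcon
    apply hG
    ext ⟨i, j⟩ ⟨k, l⟩
    exact congrFun (congrFun (hcon j l) i) k
  set P := Bl j₀ l₀ with hPd
  -- `P` is invertible
  have hPdet : P.det ≠ 0 := by
    intro hdet
    obtain ⟨v, hv, hv0⟩ := Matrix.exists_vecMul_eq_zero_iff.2 hdet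
    apply hP
    obtain ⟨a, ha⟩ : ∃ a, v a ≠ 0 := by
      by_contra! hcon
      exact hv (funext hcon)
    -- `v N P = v P θN = 0` for all `N`
    have h1 : ∀ N : Matrix I I K, v ᵥ* N ᵥ* P = 0 := by
      intro N
      rw [vecMul_vecMul, hbl, ← vecMul_vecMul, hv0, zero_vecMul]
    ext i k
    have h2 := congrFun (h1 (Matrix.single a i 1)) k
    have e3 : v ᵥ* (Matrix.single a i (1 : K)) = v a • Pi.single i 1 := by
      funext x
      rw [vecMul, dotProduct, Finset.sum_eq_single a]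
      · by_cases hx : x = i
        · subst hx; simp
        · rw [Matrix.single_apply, if_neg (fun h => hx h.2.symm)]; simp [hx]
      · intro y _ hy
        rw [Matrix.single_apply, if_neg (fun h => hy h.1.symm), mul_zero]
      · intro hy; exact absurd (Finset.mem_univ _) hy
    rw [e3, smul_vecMul, single_one_vecMul] at h2
    exact (mul_eq_zero.1 h2).resolve_left ha
  have hu : IsUnit P.det := isUnit_iff_ne_zero.2 hPdet
  have hPi : P * P⁻¹ = 1 := Matrix.mul_nonsing_inv _ hu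
  have hPi' : P⁻¹ * P = 1 := Matrix.nonsing_inv_mul _ hu
  have hθ : ∀ N, θ N = P⁻¹ * N * P := by
    intro N
    rw [mul_assoc, hbl N j₀ l₀, ← mul_assoc, hPi', one_mul]
  have hcomm : ∀ N : Matrix I I K, (G * (P⁻¹ ⊗ₖ (1 : Matrix J J K))) * (N ⊗ₖ (1 : Matrix J J K)) =
      (N ⊗ₖ (1 : Matrix J J K)) * (G * (P⁻¹ ⊗ₖ (1 : Matrix J J K))) := by
    intro N
    rw [← mul_assoc (N ⊗ₖ (1 : Matrix J J K)), h, hθ, mul_assoc G, mul_assoc G, ← Matrix.mul_kronecker_mul,
      ← Matrix.mul_kronecker_mul, mul_assoc (P⁻¹ * N) P, hPi, mul_one, mul_one]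
  obtain ⟨Q, hQ⟩ := of_comm hcomm
  refine ⟨P, Q, ?_⟩
  have e4 : G = (G * (P⁻¹ ⊗ₖ (1 : Matrix J J K))) * (P ⊗ₖ (1 : Matrix J J K)) := by
    rw [mul_assoc, ← Matrix.mul_kronecker_mul, hPi', one_mul, Matrix.one_kronecker_one, mul_one]
  rw [e4, hQ, ← Matrix.mul_kronecker_mul, one_mul, mul_one]

theorem ct_kron {I J : Type*} [Fintype I] (τ : K ≃+* K) (X : Matrix I I K) (Y : Matrix J J K) :
    ct τ (X ⊗ₖ Y) = ct τ X ⊗ₖ ct τ Y := by
  unfold ct
  rw [map_kron, kron_transpose]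

theorem ct_smul {I : Type*} (τ : K ≃+* K) (a : K) (X : Matrix I I K) : ct τ (a • X) = τ a • ct τ X := by
  ext i j
  simp [ct]

theorem ct_ct {I : Type*} {τ : K ≃+* K} (hτ : ∀ a, τ (τ a) = a) (X : Matrix I I K) : ct τ (ct τ X) = X := by
  ext i j
  simp [ct, hτ]

/-- hermitian scaling of the factors -/
theorem herm_factors {I J : Type*} [Fintype I] [DecidableEq I] [Fintype J] [DecidableEq J] {τ : K ≃+* K}
    (hτ : ∀ a, τ (τ a) = a) (hne : ∃ a, τ a ≠ a) {P : Matrix I I K} {Q : Matrix J J K} (hP : P ≠ 0) (hQ : Q ≠ 0)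
    (h : ct τ (P ⊗ₖ Q) = P ⊗ₖ Q) : ∃ c : K, c ≠ 0 ∧ ct τ (c • P) = c • P ∧ ct τ (c⁻¹ • Q) = c⁻¹ • Q := by
  rw [ct_kron] at h
  obtain ⟨l, hl, h1, h2⟩ := pure_eq h hP hQ
  have h3 : τ l * l = 1 := by
    have h4 := congrArg (ct τ) h1
    rw [ct_ct hτ, ct_smul, h1, smul_smul] at h4
    have h5 : (τ l * l - 1) • P = 0 := by rw [sub_smul, one_smul, ← h4, sub_self]
    rcases smul_eq_zero.1 h5 with h6 | h6
    · exact sub_eq_zero.1 h6
    · exact absurd h6 hP
  obtain ⟨a, ha⟩ : ∃ a : K, a + τ a * l ≠ 0 := by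
    by_contra! hcon
    have h4 := hcon 1
    rw [map_one, one_mul] at h4
    obtain ⟨a, ha⟩ := hne
    have h5 := hcon a
    have h6 : l = -1 := by linear_combination h4
    rw [h6] at h5
    apply ha
    linear_combination -h5
  have h7 : τ (a + τ a * l) * l = a + τ a * l := by
    rw [map_add, map_mul, hτ]
    linear_combination a * h3
  refine ⟨a + τ a * l, ha, ?_, ?_⟩
  · rw [ct_smul, h1, smul_smul, h7]
  · rw [ct_smul, h2, smul_smul, map_inv₀, ← mul_inv, h7]

theorem det_ne_of_one {I : Type*} [Fintype I] [DecidableEq I] {τ : K ≃+* K} {P A : Matrix I I K}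
    (h : Aᵀ * P * A.map τ = 1) : A.det ≠ 0 := by
  intro h0
  have h1 := congrArg Matrix.det h
  rw [Matrix.det_mul, Matrix.det_mul, Matrix.det_transpose, h0, zero_mul, zero_mul, Matrix.det_one] at h1
  exact zero_ne_one h1

/-- **Normal form.** -/
theorem exists_nf (b : Cl K V) (hU : b.IsU) {I J : Type*} [Fintype I] [DecidableEq I] [Fintype J] [DecidableEq J]
    [Nonempty I] [Nonempty J] (Φ : Matrix (I × J) (I × J) K ≃ₐ[K] R K V)
    (hadj : ∀ B : Matrix I I K, ∃ B' : Matrix I I K, b.Adj (Φ (B ⊗ₖ (1 : Matrix J J K))) (Φ (B' ⊗ₖ (1 : Matrix J J K)))) :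
    ∃ Ψ : Matrix (I × J) (I × J) K ≃ₐ[K] R K V,
      (∀ B : Matrix I I K, ∃ B' : Matrix I I K, Φ (B ⊗ₖ (1 : Matrix J J K)) = Ψ (B' ⊗ₖ (1 : Matrix J J K))) ∧
      (∀ B : Matrix I I K, ∃ B' : Matrix I I K, Ψ (B ⊗ₖ (1 : Matrix J J K)) = Φ (B' ⊗ₖ (1 : Matrix J J K))) ∧
      ∀ X, b.Adj (Ψ X) (Ψ ((X.map b.τ)ᵀ)) := by
  obtain ⟨T, hT⟩ := exists_T Φ
  set G := gram b T with hGd
  have hGdet : G.det ≠ 0 := gram_det b T
  have hG0 : G ≠ 0 := by
    intro h
    apply hGdet
    rw [h, Matrix.det_zero]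
  have h1 : ∀ N : Matrix I I K, ∃ N' : Matrix I I K, (N ⊗ₖ (1 : Matrix J J K)) * G = G * (N' ⊗ₖ (1 : Matrix J J K)) := by
    intro N
    obtain ⟨B', hB'⟩ := hadj Nᵀ
    rw [adj_iff b T Φ hT, kron_transpose, Matrix.transpose_transpose, Matrix.transpose_one, map_kron, map_one_] at hB'
    exact ⟨_, hB'⟩
  choose θ hθ using h1
  obtain ⟨P, Q, hPQ⟩ := gram_pure hG0 hθ
  have hP0 : P ≠ 0 := by
    rintro rfl
    rw [Matrix.zero_kronecker] at hPQ
    exact hG0 hPQ
  have hQ0 : Q ≠ 0 := by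
    rintro rfl
    rw [Matrix.kronecker_zero] at hPQ
    exact hG0 hPQ
  have hct : ct b.τ (P ⊗ₖ Q) = P ⊗ₖ Q := by rw [← hPQ]; exact gram_herm hU T
  obtain ⟨c, hc, hcP, hcQ⟩ := herm_factors b.invol hU.1 hP0 hQ0 hct
  set P' := c • P with hP'
  set Q' := c⁻¹ • Q with hQ'
  have hPQ' : G = P' ⊗ₖ Q' := by
    rw [hPQ, hP', hQ', Matrix.smul_kronecker, Matrix.kronecker_smul, smul_smul, mul_inv_cancel₀ hc, one_smul]
  have hdet : P'.det ≠ 0 ∧ Q'.det ≠ 0 := by
    rw [hPQ', Matrix.det_kronecker] at hGdet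
    constructor
    · intro h
      apply hGdet
      rw [h, zero_pow Fintype.card_ne_zero, zero_mul]
    · intro h
      apply hGdet
      rw [h, zero_pow Fintype.card_ne_zero, mul_zero]
  obtain ⟨A, hA⟩ := herm_one b.τ b.invol hU.1 P' hcP hdet.1
  obtain ⟨C, hC⟩ := herm_one b.τ b.invol hU.1 Q' hcQ hdet.2
  have hA1 : A * A⁻¹ = 1 := Matrix.mul_nonsing_inv _ (isUnit_iff_ne_zero.2 (det_ne_of_one hA))
  have hA2 : A⁻¹ * A = 1 := Matrix.nonsing_inv_mul _ (isUnit_iff_ne_zero.2 (det_ne_of_one hA))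
  have hC1 : C * C⁻¹ = 1 := Matrix.mul_nonsing_inv _ (isUnit_iff_ne_zero.2 (det_ne_of_one hC))
  have hC2 : C⁻¹ * C = 1 := Matrix.nonsing_inv_mul _ (isUnit_iff_ne_zero.2 (det_ne_of_one hC))
  set W := A ⊗ₖ C with hW
  set W' := A⁻¹ ⊗ₖ C⁻¹ with hW'
  have hWW : W * W' = 1 := by rw [hW, hW', ← Matrix.mul_kronecker_mul, hA1, hC1, Matrix.one_kronecker_one]
  have hWW' : W' * W = 1 := by rw [hW, hW', ← Matrix.mul_kronecker_mul, hA2, hC2, Matrix.one_kronecker_one]
  have hWG : Wᵀ * G * W.map b.τ = 1 := by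
    rw [hW, hPQ', map_kron, kron_transpose, ← Matrix.mul_kronecker_mul, ← Matrix.mul_kronecker_mul, hA, hC,
      Matrix.one_kronecker_one]
  have hτ1 : W.map b.τ * W'.map b.τ = 1 := by rw [← map_mul_, hWW, map_one_]
  have ht1 : W'ᵀ * Wᵀ = 1 := by rw [← Matrix.transpose_mul, hWW, Matrix.transpose_one]
  have e1 : Wᵀ * G = W'.map b.τ := by
    calc Wᵀ * G = Wᵀ * G * (W.map b.τ * W'.map b.τ) := by rw [hτ1, mul_one]
      _ = (Wᵀ * G * W.map b.τ) * W'.map b.τ := by rw [← mul_assoc (Wᵀ * G)]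
      _ = _ := by rw [hWG, one_mul]
  have e2 : G * W.map b.τ = W'ᵀ := by
    calc G * W.map b.τ = (W'ᵀ * Wᵀ) * (G * W.map b.τ) := by rw [ht1, one_mul]
      _ = W'ᵀ * (Wᵀ * G * W.map b.τ) := by rw [mul_assoc, mul_assoc Wᵀ]
      _ = _ := by rw [hWG, mul_one]
  refine ⟨(conjW W W' hWW hWW').trans Φ, ?_, ?_, ?_⟩
  · intro B
    refine ⟨A⁻¹ * B * A, ?_⟩
    rw [AlgEquiv.trans_apply, conjW_apply, hW, hW', ← Matrix.mul_kronecker_mul, ← Matrix.mul_kronecker_mul, mul_one, hC1]
    have : A * (A⁻¹ * B * A) * A⁻¹ = (A * A⁻¹) * B * (A * A⁻¹) := by noncomm_ring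
    rw [this, hA1, one_mul, mul_one]
  · intro B
    refine ⟨A * B * A⁻¹, ?_⟩
    rw [AlgEquiv.trans_apply, conjW_apply, hW, hW', ← Matrix.mul_kronecker_mul, ← Matrix.mul_kronecker_mul, mul_one, hC1]
  · intro X
    rw [AlgEquiv.trans_apply, AlgEquiv.trans_apply, conjW_apply, conjW_apply, adj_iff b T Φ hT, ← hGd]
    have e3 : ((X.map b.τ)ᵀ).map b.τ = Xᵀ := by
      ext i j
      simp [b.invol]
    rw [map_mul_, map_mul_, e3, Matrix.transpose_mul, Matrix.transpose_mul]
    calc W'ᵀ * (Xᵀ * Wᵀ) * G = W'ᵀ * Xᵀ * (Wᵀ * G) := by noncomm_ring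
      _ = (G * W.map b.τ) * Xᵀ * W'.map b.τ := by rw [e1, e2]
      _ = G * (W.map b.τ * Xᵀ * W'.map b.τ) := by noncomm_ring

end nf

end Cfsg.Agent.H195.FC
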