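import Mathlib
set_option linter.all false

-- part: H195/FC/Tens
section
/-!
# S5764, tensor decompositions: rigidity (helper195)
-/

set_option autoImplicit false
set_option linter.unusedSectionVars false

namespace Cfsg.Agent.H195.FC

open Matrix
open scoped Kronecker

section

variable {K : Type*} [Field K] {ι κ : Type*} [Fintype ι] [DecidableEq ι] [Fintype κ] [DecidableEq κ]

/-- the pure tensor `v ⊗ w` -/
def ot (v : ι → K) (w : κ → K) : ι × κ → K := fun p => v p.1 * w p.2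

theorem kron_ot (B : Matrix ι ι K) (C : Matrix κ κ K) (v : ι → K) (w : κ → K) :
    (B ⊗ₖ C) *ᵥ ot v w = ot (B *ᵥ v) (C *ᵥ w) := by
  funext p
  simp only [Matrix.mulVec, dotProduct, ot, Matrix.kroneckerMap_apply]
  rw [Finset.sum_mul_sum, ← Finset.univ_product_univ, Finset.sum_product]
  refine Finset.sum_congr rfl fun i _ => Finset.sum_congr rfl fun j _ => ?_
  ring

theorem ext_ot {A A' : Matrix (ι × κ) (ι × κ) K} (h : ∀ v w, A *ᵥ ot v w = A' *ᵥ ot v w) : A = A' := by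
  apply Matrix.ext_of_mulVec_single
  rintro ⟨i, j⟩
  have e : (Pi.single (i, j) (1 : K) : ι × κ → K) = ot (Pi.single i 1) (Pi.single j 1) := by
    funext p
    obtain ⟨a, b⟩ := p
    simp only [ot, Pi.single_apply, Prod.mk.injEq]
    by_cases h1 : a = i <;> by_cases h2 : b = j <;> simp [h1, h2]
  rw [e, h]

/-- contraction of the second factor -/
def cr (ψ : (κ → K) →ₗ[K] K) : (ι × κ → K) →ₗ[K] (ι → K) where
  toFun X := fun i => ψ (fun j => X (i, j))
  map_add' X Y := by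
    funext i
    exact map_add ψ (fun j => X (i, j)) (fun j => Y (i, j))
  map_smul' a X := by
    funext i
    exact map_smul ψ a (fun j => X (i, j))

theorem cr_ot (ψ : (κ → K) →ₗ[K] K) (v : ι → K) (w : κ → K) : cr ψ (ot v w) = ψ w • v := by
  funext i
  change ψ (v i • w) = _
  rw [map_smul, Pi.smul_apply, smul_eq_mul, smul_eq_mul, mul_comm]

/-- contraction of the first factor -/
def cl (φ : (ι → K) →ₗ[K] K) : (ι × κ → K) →ₗ[K] (κ → K) where
  toFun X := fun j => φ (fun i => X (i, j))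
  map_add' X Y := by
    funext j
    exact map_add φ (fun i => X (i, j)) (fun i => Y (i, j))
  map_smul' a X := by
    funext j
    exact map_smul φ a (fun i => X (i, j))

theorem cl_ot (φ : (ι → K) →ₗ[K] K) (v : ι → K) (w : κ → K) : cl φ (ot v w) = φ v • w := by
  funext j
  change φ (fun i => v i * w j) = _
  have : (fun i => v i * w j) = w j • v := by
    funext i; simp [mul_comm]
  rw [this, map_smul, Pi.smul_apply, smul_eq_mul, smul_eq_mul, mul_comm]

theorem exists_fun {a b : ι → K} (h : b ∉ Submodule.span K {a}) : ∃ φ : (ι → K) →ₗ[K] K, φ a = 0 ∧ φ b ≠ 0 := by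
  obtain ⟨φ, h1, h2⟩ := Submodule.exists_le_ker_of_notMem h
  exact ⟨φ, h2 (Submodule.mem_span_singleton_self a), h1⟩

theorem nil_eig {B : Matrix ι ι K} {n : ℕ} (hB : B ^ n = 0) {v : ι → K} (hv : v ≠ 0)
    (h : B *ᵥ v ∈ Submodule.span K {v}) : B *ᵥ v = 0 := by
  obtain ⟨a, ha⟩ := Submodule.mem_span_singleton.1 h
  have h1 : ∀ m : ℕ, (B ^ m) *ᵥ v = a ^ m • v := by
    intro m
    induction m with
    | zero => simp
    | succ m ih => rw [pow_succ, ← mulVec_mulVec, ← ha, mulVec_smul, ih, smul_smul, pow_succ, mul_comm]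
  have h2 := h1 n
  rw [hB, zero_mulVec] at h2
  rcases smul_eq_zero.1 h2.symm with h3 | h3
  · have : a = 0 := by
      by_contra hne
      exact pow_ne_zero n hne h3
    rw [← ha, this, zero_smul]
  · exact absurd h3 hv

theorem exists_ker [Nonempty ι] {B : Matrix ι ι K} {n : ℕ} (hB : B ^ n = 0) : ∃ v : ι → K, v ≠ 0 ∧ B *ᵥ v = 0 := by
  rw [Matrix.exists_mulVec_eq_zero_iff]
  have h : B.det ^ n = 0 := by
    rcases Nat.eq_zero_or_pos n with h0 | h0
    · subst h0
      rw [pow_zero] at hB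
      exact absurd hB one_ne_zero
    · rw [← Matrix.det_pow, hB, Matrix.det_zero]
  by_contra hne
  exact pow_ne_zero n hne h

/-- a matrix commuting with all `C ⊗ 1` is `1 ⊗ g` -/
theorem of_comm [Nonempty ι] {m : Matrix (ι × κ) (ι × κ) K}
    (h : ∀ C : Matrix ι ι K, m * (C ⊗ₖ (1 : Matrix κ κ K)) = (C ⊗ₖ (1 : Matrix κ κ K)) * m) :
    ∃ g : Matrix κ κ K, m = (1 : Matrix ι ι K) ⊗ₖ g := by
  obtain ⟨i₀⟩ := ‹Nonempty ι›
  have key : ∀ (a b : ι) (i i' : ι) (j l : κ), (if b = i' then m (i, j) (a, l) else 0) = if a = i then m (b, j) (i', l) else 0 := by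
    intro a b i i' j l
    have h1 := congrFun (congrFun (h (Matrix.single a b 1)) (i, j)) (i', l)
    rw [Matrix.mul_apply, Matrix.mul_apply, Fintype.sum_prod_type, Fintype.sum_prod_type] at h1
    simp only [Matrix.kroneckerMap_apply, Matrix.single_apply, Matrix.one_apply] at h1
    rw [Finset.sum_eq_single a, Finset.sum_eq_single l, Finset.sum_eq_single b, Finset.sum_eq_single j] at h1
    · simpa using h1
    all_goals first | (intro x _ hx; simp [hx, Ne.symm hx]) | (intro hx; exact absurd (Finset.mem_univ _) hx)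
  refine ⟨Matrix.of fun j l => m (i₀, j) (i₀, l), ?_⟩
  ext ⟨i, j⟩ ⟨i', l⟩
  rw [Matrix.kroneckerMap_apply, Matrix.one_apply, Matrix.of_apply]
  by_cases hii : i = i'
  · subst hii
    have h1 := key i₀ i i₀ i j l
    rw [if_pos rfl, if_pos rfl] at h1
    rw [if_pos rfl, one_mul, h1]
  · have h1 := key i i i i' j l
    rw [if_neg hii, if_pos rfl] at h1
    rw [if_neg hii, zero_mul, ← h1]

/-- **Rigidity.** -/
theorem rigid [Nonempty ι] [Nonempty κ] {m : Matrix (ι × κ) (ι × κ) K} {D : Matrix ι ι K → Matrix ι ι K}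
    (hm : ∀ C : Matrix ι ι K, m * (C ⊗ₖ (1 : Matrix κ κ K)) = ((D C) ⊗ₖ (1 : Matrix κ κ K)) * m)
    {B B' : Matrix ι ι K} {h h' : Matrix κ κ K} {n : ℕ} (hB : B ^ n = 0) (hh : h ^ n = 0) (hB' : B' ^ n = 0) (hh' : h' ^ n = 0)
    (hB0 : B ≠ 0) (hh0 : h ≠ 0)
    (h1 : ∀ v w, h' *ᵥ w = 0 → m *ᵥ ot v w = ot v w + ot (B *ᵥ v) (h *ᵥ w))
    (h2 : ∀ v w, B' *ᵥ v = 0 → m *ᵥ ot v w = ot v w + ot (B *ᵥ v) (h *ᵥ w)) : m = 1 := by
  obtain ⟨w₀, hw₀, hw₁⟩ := exists_ker hh'
  obtain ⟨v₀, hv₀, hv₁⟩ := exists_ker hB'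
  -- the basic equation
  have e1 : ∀ (C : Matrix ι ι K) (v : ι → K), ot (C *ᵥ v) w₀ + ot (B *ᵥ C *ᵥ v) (h *ᵥ w₀) =
      ot ((D C) *ᵥ v) w₀ + ot ((D C) *ᵥ B *ᵥ v) (h *ᵥ w₀) := by
    intro C v
    have h3 := congrArg (fun X => X *ᵥ ot v w₀) (hm C)
    simp only [← mulVec_mulVec] at h3
    rw [kron_ot, one_mulVec, h1 _ _ hw₁, h1 _ _ hw₁, mulVec_add, kron_ot, kron_ot, one_mulVec, one_mulVec] at h3
    exact h3
  have hD : ∀ C, D C = C := by
    by_cases hs : h *ᵥ w₀ ∈ Submodule.span K {w₀}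
    · have h0 := nil_eig hh hw₀ hs
      intro C
      obtain ⟨ψ, -, hψ'⟩ := exists_fun (a := (0 : κ → K)) (b := w₀) (by simpa using hw₀)
      apply Matrix.ext_of_mulVec_single
      intro i
      have h3 := congrArg (cr ψ) (e1 C (Pi.single i 1))
      rw [h0] at h3
      simp only [map_add, cr_ot, map_zero, zero_smul, add_zero] at h3
      exact (smul_right_injective _ hψ' h3).symm
    · exfalso
      obtain ⟨ψ, hψ, hψ'⟩ := exists_fun hs
      -- `ψ w₀ = 0`
      have h4 : ∀ (C : Matrix ι ι K) (v : ι → K), B *ᵥ C *ᵥ v = (D C) *ᵥ B *ᵥ v := by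
        intro C v
        have h3 := congrArg (cr ψ) (e1 C v)
        simp only [map_add, cr_ot, hψ, zero_smul, zero_add] at h3
        exact smul_right_injective _ hψ' h3
      have hs' : w₀ ∉ Submodule.span K {h *ᵥ w₀} := by
        intro hcon
        obtain ⟨c, hc⟩ := Submodule.mem_span_singleton.1 hcon
        have hc0 : c ≠ 0 := by
          rintro rfl
          rw [zero_smul] at hc
          exact hw₀ hc.symm
        apply hs
        rw [Submodule.mem_span_singleton]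
        refine ⟨c⁻¹, ?_⟩
        nth_rewrite 1 [← hc]
        rw [smul_smul, inv_mul_cancel₀ hc0, one_smul]
      obtain ⟨ψ₂, hψ₂, hψ₂'⟩ := exists_fun hs'
      have h5 : ∀ C, D C = C := by
        intro C
        apply Matrix.ext_of_mulVec_single
        intro i
        have h3 := congrArg (cr ψ₂) (e1 C (Pi.single i 1))
        simp only [map_add, cr_ot, hψ₂, zero_smul, add_zero] at h3
        exact (smul_right_injective _ hψ₂' h3).symm
      obtain ⟨c, hc⟩ : B ∈ Set.range (Matrix.scalar ι : K → Matrix ι ι K) := by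
        rw [Matrix.mem_range_scalar_iff_commute_single']
        intro i j
        apply Matrix.ext_of_mulVec_single
        intro k
        have h6 := h4 (Matrix.single i j 1) (Pi.single k 1)
        rw [h5, mulVec_mulVec, mulVec_mulVec] at h6
        exact h6.symm
      obtain ⟨v₁, hv₁, hv₂⟩ := exists_ker hB
      rw [← hc, Matrix.scalar_apply, ← Matrix.smul_one_eq_diagonal, smul_mulVec, one_mulVec] at hv₂
      rcases smul_eq_zero.1 hv₂ with h7 | h7
      · apply hB0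
        rw [← hc, h7, map_zero]
      · exact hv₁ h7
  have hc : ∀ C : Matrix ι ι K, m * (C ⊗ₖ (1 : Matrix κ κ K)) = (C ⊗ₖ (1 : Matrix κ κ K)) * m := by
    intro C
    rw [hm C, hD C]
  obtain ⟨g, hg⟩ := of_comm hc
  have e2 : ∀ w, ot v₀ (g *ᵥ w) = ot v₀ w + ot (B *ᵥ v₀) (h *ᵥ w) := by
    intro w
    have h3 := h2 v₀ w hv₁
    rw [hg, kron_ot, one_mulVec] at h3
    exact h3
  by_cases hs : B *ᵥ v₀ ∈ Submodule.span K {v₀}
  · have h0 := nil_eig hB hv₀ hs
    obtain ⟨φ, -, hφ'⟩ := exists_fun (a := (0 : ι → K)) (b := v₀) (by simpa using hv₀)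
    have h3 : g = 1 := by
      apply Matrix.ext_of_mulVec_single
      intro j
      have h4 := congrArg (cl φ) (e2 (Pi.single j 1))
      rw [h0] at h4
      simp only [map_add, cl_ot, map_zero, zero_smul, add_zero] at h4
      rw [one_mulVec]
      exact smul_right_injective _ hφ' h4
    rw [hg, h3, Matrix.one_kronecker_one]
  · exfalso
    obtain ⟨φ, hφ, hφ'⟩ := exists_fun hs
    apply hh0
    apply Matrix.ext_of_mulVec_single
    intro j
    have h4 := congrArg (cl φ) (e2 (Pi.single j 1))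
    simp only [map_add, cl_ot, hφ, zero_smul, zero_add] at h4
    rw [zero_mulVec]
    exact (smul_eq_zero.1 h4.symm).resolve_left hφ'

end

end Cfsg.Agent.H195.FC
end

-- part: H195/FC/Ring
section
/-!
# S5764, tensor decompositions: ring automorphisms and anti-automorphisms (helper195)
-/

set_option autoImplicit false
set_option linter.unusedSectionVars false

namespace Cfsg.Agent.H195.FC

open Matrix
open scoped Kronecker

section

variable {K : Type*} [Field K] {ι κ : Type*} [Fintype ι] [DecidableEq ι] [Fintype κ] [DecidableEq κ]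

theorem kron_inj_left [Nonempty κ] {A A' : Matrix ι ι K} (h : A ⊗ₖ (1 : Matrix κ κ K) = A' ⊗ₖ (1 : Matrix κ κ K)) : A = A' := by
  obtain ⟨j⟩ := ‹Nonempty κ›
  ext i i'
  have := congrFun (congrFun h (i, j)) (i', j)
  simpa using this

theorem kron_inj_right [Nonempty ι] {A A' : Matrix κ κ K} (h : (1 : Matrix ι ι K) ⊗ₖ A = (1 : Matrix ι ι K) ⊗ₖ A') : A = A' := by
  obtain ⟨j⟩ := ‹Nonempty ι›
  ext i i'
  have := congrFun (congrFun h (j, i)) (j, i')
  simpa using this

theorem kron_mul_comm (B : Matrix ι ι K) (h : Matrix κ κ K) :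
    (B ⊗ₖ (1 : Matrix κ κ K)) * ((1 : Matrix ι ι K) ⊗ₖ h) = B ⊗ₖ h := by
  rw [← Matrix.mul_kronecker_mul, mul_one, one_mul]

theorem kron_mul_comm' (B : Matrix ι ι K) (h : Matrix κ κ K) :
    ((1 : Matrix ι ι K) ⊗ₖ h) * (B ⊗ₖ (1 : Matrix κ κ K)) = B ⊗ₖ h := by
  rw [← Matrix.mul_kronecker_mul, mul_one, one_mul]

theorem kron_pow (A : Matrix ι ι K) (C : Matrix κ κ K) (n : ℕ) : (A ⊗ₖ C) ^ n = (A ^ n) ⊗ₖ (C ^ n) := by
  induction n with
  | zero => simp
  | succ n ih => rw [pow_succ, ih, ← Matrix.mul_kronecker_mul, ← pow_succ, ← pow_succ]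

/-- comparison of pure tensors -/
theorem pure_eq {A A' : Matrix ι ι K} {C C' : Matrix κ κ K} (h : A ⊗ₖ C = A' ⊗ₖ C') (hA : A' ≠ 0) (hC : C' ≠ 0) :
    ∃ c : K, c ≠ 0 ∧ A = c • A' ∧ C = c⁻¹ • C' := by
  obtain ⟨i₀, i₁, hi⟩ : ∃ i₀ i₁, A' i₀ i₁ ≠ 0 := by
    by_contra! hcon
    exact hA (by ext i j; exact hcon i j)
  obtain ⟨j₀, j₁, hj⟩ : ∃ j₀ j₁, C' j₀ j₁ ≠ 0 := by
    by_contra! hcon
    exact hC (by ext i j; exact hcon i j)
  have key : ∀ i i' j j', A i i' * C j j' = A' i i' * C' j j' := by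
    intro i i' j j'
    have := congrFun (congrFun h (i, j)) (i', j')
    simpa using this
  have h0 := key i₀ i₁ j₀ j₁
  have hne : A i₀ i₁ * C j₀ j₁ ≠ 0 := by rw [h0]; exact mul_ne_zero hi hj
  have hAne := left_ne_zero_of_mul hne
  have hCne := right_ne_zero_of_mul hne
  refine ⟨C' j₀ j₁ / C j₀ j₁, div_ne_zero hj hCne, ?_, ?_⟩
  · ext i i'
    have h1 := key i i' j₀ j₁
    rw [Matrix.smul_apply, smul_eq_mul]
    field_simp
    linear_combination h1
  · ext j j'
    have h1 := key i₀ i₁ j j'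
    rw [Matrix.smul_apply, smul_eq_mul]
    have h2 : A i₀ i₁ * (C j j' * C' j₀ j₁) = A i₀ i₁ * (C j₀ j₁ * C' j j') := by
      linear_combination C' j₀ j₁ * h1 - C' j j' * h0
    have h3 := mul_left_cancel₀ hAne h2
    field_simp
    linear_combination h3

/-- a ring automorphism or anti-automorphism of `M_{ικ}(K)` preserving `M_ι(K) ⊗ 1` -/
structure Data (F : Matrix (ι × κ) (ι × κ) K → Matrix (ι × κ) (ι × κ) K) : Prop where
  add : ∀ X Y, F (X + Y) = F X + F Y
  inj : Function.Injective F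
  mul : (∀ X Y, F (X * Y) = F X * F Y) ∨ (∀ X Y, F (X * Y) = F Y * F X)
  pres : ∀ B : Matrix ι ι K, ∃ B' : Matrix ι ι K, F (B ⊗ₖ (1 : Matrix κ κ K)) = B' ⊗ₖ (1 : Matrix κ κ K)

namespace Data

variable {F : Matrix (ι × κ) (ι × κ) K → Matrix (ι × κ) (ι × κ) K}

theorem zero (D : Data F) : F 0 = 0 := by
  have h := D.add 0 0
  rw [add_zero] at h
  exact left_eq_add.1 h

theorem one [Finite K] (D : Data F) : F 1 = 1 := by
  have hs : Function.Surjective F := Finite.surjective_of_injective D.inj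
  obtain ⟨X, hX⟩ := hs 1
  rcases D.mul with h | h
  · have h1 := h 1 X
    rw [one_mul, hX, mul_one] at h1
    exact h1.symm
  · have h1 := h X 1
    rw [mul_one, hX, mul_one] at h1
    exact h1.symm

theorem neg (D : Data F) (X : Matrix (ι × κ) (ι × κ) K) : F (-X) = - F X := by
  have h := D.add (-X) X
  rw [neg_add_cancel, D.zero] at h
  exact eq_neg_of_add_eq_zero_left h.symm

theorem pow (D : Data F) (X : Matrix (ι × κ) (ι × κ) K) {n : ℕ} (hn : 0 < n) : F (X ^ n) = F X ^ n := by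
  induction n with
  | zero => omega
  | succ n ih =>
    rcases Nat.eq_zero_or_pos n with h0 | h0
    · subst h0
      simp
    · rw [pow_succ]
      rcases D.mul with h | h
      · rw [h, ih h0, ← pow_succ]
      · rw [h, ih h0, ← pow_succ']

/-- the action on the first factor -/
theorem exists_U [Finite K] [Nonempty κ] (D : Data F) : ∃ fU : Matrix ι ι K → Matrix ι ι K, Function.Bijective fU ∧
    ∀ B, F (B ⊗ₖ (1 : Matrix κ κ K)) = (fU B) ⊗ₖ (1 : Matrix κ κ K) := by
  choose fU hU using D.pres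
  refine ⟨fU, Finite.injective_iff_bijective.1 fun A B h => ?_, hU⟩
  apply kron_inj_left (κ := κ)
  apply D.inj
  rw [hU, hU, h]

/-- the action on the second factor -/
theorem exists_Y [Finite K] [Nonempty ι] [Nonempty κ] (D : Data F) : ∃ fY : Matrix κ κ K → Matrix κ κ K,
    Function.Injective fY ∧ ∀ h, F ((1 : Matrix ι ι K) ⊗ₖ h) = (1 : Matrix ι ι K) ⊗ₖ (fY h) := by
  obtain ⟨fU, hb, hU⟩ := D.exists_U
  have h1 : ∀ h : Matrix κ κ K, ∃ h', F ((1 : Matrix ι ι K) ⊗ₖ h) = (1 : Matrix ι ι K) ⊗ₖ h' := by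
    intro h
    apply of_comm
    intro C
    obtain ⟨B, rfl⟩ := hb.2 C
    rw [← hU]
    rcases D.mul with hm | hm
    · rw [← hm, ← hm, kron_mul_comm, kron_mul_comm']
    · rw [← hm, ← hm, kron_mul_comm, kron_mul_comm']
  choose fY hY using h1
  refine ⟨fY, fun A B h => ?_, hY⟩
  apply kron_inj_right (ι := ι)
  apply D.inj
  rw [hY, hY, h]

theorem kron (D : Data F) {fU : Matrix ι ι K → Matrix ι ι K} (hU : ∀ B, F (B ⊗ₖ (1 : Matrix κ κ K)) = (fU B) ⊗ₖ (1 : Matrix κ κ K))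
    {fY : Matrix κ κ K → Matrix κ κ K} (hY : ∀ h, F ((1 : Matrix ι ι K) ⊗ₖ h) = (1 : Matrix ι ι K) ⊗ₖ (fY h))
    (B : Matrix ι ι K) (h : Matrix κ κ K) : F (B ⊗ₖ h) = (fU B) ⊗ₖ (fY h) := by
  rw [← kron_mul_comm]
  rcases D.mul with hm | hm
  · rw [hm, hU, hY, kron_mul_comm]
  · rw [hm, hU, hY, kron_mul_comm']

/-- **Main step.** -/
theorem main [Finite K] [Nonempty ι] [Nonempty κ] (D : Data F) {B : Matrix ι ι K} {h : Matrix κ κ K} {n : ℕ}
    (hn : 0 < n) (hB : B ^ n = 0) (hh : h ^ n = 0) (hB0 : B ≠ 0) (hh0 : h ≠ 0) {x xi : Matrix (ι × κ) (ι × κ) K}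
    (hx : x = 1 + B ⊗ₖ h) (hxi : x * xi = 1) (hxi' : xi * x = 1)
    (H : ∀ C : Matrix ι ι K, ∃ E : Matrix ι ι K, x * F (xi * (C ⊗ₖ (1 : Matrix κ κ K)) * x) * xi = E ⊗ₖ (1 : Matrix κ κ K)) :
    ((∀ X Y, F (X * Y) = F X * F Y) → F x = x) ∧ ((∀ X Y, F (X * Y) = F Y * F X) → x * F x = 1) := by
  obtain ⟨fU, hb, hU⟩ := D.exists_U
  obtain ⟨fY, hi, hY⟩ := D.exists_Y
  have hnilU : (fU B) ^ n = 0 := by
    apply kron_inj_left (κ := κ)
    have h1 : ((fU B) ^ n) ⊗ₖ (1 : Matrix κ κ K) = ((fU B) ⊗ₖ (1 : Matrix κ κ K)) ^ n := by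
      rw [kron_pow, one_pow]
    rw [h1, ← hU, ← D.pow _ hn, kron_pow, hB, Matrix.zero_kronecker, Matrix.zero_kronecker, D.zero]
  have hnilY : (fY h) ^ n = 0 := by
    apply kron_inj_right (ι := ι)
    have h1 : (1 : Matrix ι ι K) ⊗ₖ ((fY h) ^ n) = ((1 : Matrix ι ι K) ⊗ₖ (fY h)) ^ n := by
      rw [kron_pow, one_pow]
    rw [h1, ← hY, ← D.pow _ hn, kron_pow, hh, Matrix.kronecker_zero, Matrix.kronecker_zero, D.zero]
  have hFx : F x = 1 + (fU B) ⊗ₖ (fY h) := by
    rw [hx, D.add, D.one, D.kron hU hY]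
  have hfix : ∀ v w, (fY h *ᵥ w = 0 ∨ fU B *ᵥ v = 0) → F x *ᵥ ot v w = ot v w := by
    intro v w hvw
    rw [hFx, add_mulVec, one_mulVec, kron_ot]
    rcases hvw with h1 | h1
    · rw [h1]
      have : ot (fU B *ᵥ v) (0 : κ → K) = 0 := by funext p; simp [ot]
      rw [this, add_zero]
    · rw [h1]
      have : ot (0 : ι → K) (fY h *ᵥ w) = 0 := by funext p; simp [ot]
      rw [this, add_zero]
  have hxot : ∀ v w, x *ᵥ ot v w = ot v w + ot (B *ᵥ v) (h *ᵥ w) := by
    intro v w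
    rw [hx, add_mulVec, one_mulVec, kron_ot]
  constructor
  · intro hm
    have hy : F x * F xi = 1 := by rw [← hm, hxi, D.one]
    have hy' : F xi * F x = 1 := by rw [← hm, hxi', D.one]
    have h1 : ∀ C : Matrix ι ι K, ∃ E : Matrix ι ι K, (x * F xi) * (C ⊗ₖ (1 : Matrix κ κ K)) = (E ⊗ₖ (1 : Matrix κ κ K)) * (x * F xi) := by
      intro C
      obtain ⟨C', rfl⟩ := hb.2 C
      obtain ⟨E, hE⟩ := H C'
      refine ⟨E, ?_⟩
      rw [hm, hm, hU] at hE
      rw [← hE]
      have h2 : x * (F xi * (fU C' ⊗ₖ (1 : Matrix κ κ K)) * F x) * xi * (x * F xi) =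
          x * F xi * (fU C' ⊗ₖ (1 : Matrix κ κ K)) * (F x * (xi * x) * F xi) := by noncomm_ring
      rw [h2, hxi', mul_one, hy, mul_one]
    choose E hE using h1
    have h3 : x * F xi = 1 := rigid hE hB hh hnilU hnilY hB0 hh0
      (fun v w hw => by
        have h4 := hfix v w (Or.inl hw)
        rw [← mulVec_mulVec]
        nth_rewrite 1 [← h4]
        rw [mulVec_mulVec (ot v w) (F xi) (F x), hy', one_mulVec, hxot])
      (fun v w hv => by
        have h4 := hfix v w (Or.inr hv)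
        rw [← mulVec_mulVec]
        nth_rewrite 1 [← h4]
        rw [mulVec_mulVec (ot v w) (F xi) (F x), hy', one_mulVec, hxot])
    calc F x = (x * F xi) * F x := by rw [h3, one_mul]
      _ = x := by rw [mul_assoc, hy', mul_one]
  · intro hm
    have hy : F xi * F x = 1 := by rw [← hm, hxi, D.one]
    have hy' : F x * F xi = 1 := by rw [← hm, hxi', D.one]
    have h1 : ∀ C : Matrix ι ι K, ∃ E : Matrix ι ι K, (x * F x) * (C ⊗ₖ (1 : Matrix κ κ K)) = (E ⊗ₖ (1 : Matrix κ κ K)) * (x * F x) := by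
      intro C
      obtain ⟨C', rfl⟩ := hb.2 C
      obtain ⟨E, hE⟩ := H C'
      refine ⟨E, ?_⟩
      rw [hm, hm, hU] at hE
      rw [← hE]
      have h2 : x * (F x * ((fU C' ⊗ₖ (1 : Matrix κ κ K)) * F xi)) * xi * (x * F x) =
          x * F x * (fU C' ⊗ₖ (1 : Matrix κ κ K)) * (F xi * (xi * x) * F x) := by noncomm_ring
      rw [h2, hxi', mul_one, hy, mul_one]
    choose E hE using h1
    exact rigid hE hB hh hnilU hnilY hB0 hh0
      (fun v w hw => by rw [← mulVec_mulVec, hfix v w (Or.inl hw), hxot])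
      (fun v w hv => by rw [← mulVec_mulVec, hfix v w (Or.inr hv), hxot])

end Data

end

end Cfsg.Agent.H195.FC
end
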